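import Groth.Prelude.Def_FibSite

/-!
# The cartesian lift as a natural transformation
-/

set_option backward.isDefEq.respectTransparency false
set_option backward.isDefEq.respectTransparency.types false

universe v₂ u₂ v₁ u₁

open CategoryTheory CategoryTheory.Bicategory CategoryTheory.Limits Opposite Pseudofunctor Pseudofunctor.CoGrothendieck

namespace GrothLib.FibSite

variable {𝒮 : Type u₁} [Category.{v₁} 𝒮] {F : Pseudofunctor (LocallyDiscrete 𝒮ᵒᵖ) Cat.{v₂, u₂}}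

attribute [local simp] PrelaxFunctor.map₂_eqToHom Strict.leftUnitor_eqToIso Strict.rightUnitor_eqToIso

/-- The cartesian lift of `f` at `U`. -/
abbrev cart {R S : 𝒮} (f : R ⟶ S) (U : F.obj ⟨op S⟩) :
    (ι F R).obj ((_root_.FibSite.invImage F f).obj U) ⟶ (ι F S).obj U :=
  ⟨f, 𝟙 _⟩

lemma ι_map_comp_base {R : 𝒮} {V W : F.obj ⟨op R⟩} (κ : V ⟶ W) {Z : ∫ᶜ F}
    (g : (ι F R).obj W ⟶ Z) : ((ι F R).map κ ≫ g).base = g.base :=
  Category.id_comp _

lemma ι_map_comp_fiber {R S : 𝒮} {V W : F.obj ⟨op R⟩} (κ : V ⟶ W) {U : F.obj ⟨op S⟩}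
    (g : (ι F R).obj W ⟶ (ι F S).obj U) :
    ((ι F R).map κ ≫ g).fiber =
      κ ≫ g.fiber ≫ eqToHom (by rw [ι_map_comp_base]) := by
  dsimp [ι]
  simp [F.mapComp_id_right_inv_app, ← NatTrans.naturality_assoc, ← Cat.Hom₂.comp_app]

/-- Every morphism factors as a vertical one followed by a cartesian lift. -/
lemma eq_ι_map_comp_cart {R S : 𝒮} {V : F.obj ⟨op R⟩} {U : F.obj ⟨op S⟩}
    (g : (ι F R).obj V ⟶ (ι F S).obj U) :
    g = (ι F R).map g.fiber ≫ cart g.base U := by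
  refine Hom.ext _ _ (ι_map_comp_base g.fiber (cart g.base U)).symm ?_
  rw [ι_map_comp_fiber]
  simp [cart]
  exact (Category.comp_id _).symm

lemma base_ι_map_comp_cart {R S : 𝒮} {V : F.obj ⟨op R⟩} {U : F.obj ⟨op S⟩} (f : R ⟶ S)
    (φ : V ⟶ (_root_.FibSite.invImage F f).obj U) : ((ι F R).map φ ≫ cart f U).base = f :=
  ι_map_comp_base _ _

/-- The vertical part is unique. -/
lemma cart_left_cancel {R S : 𝒮} {V : F.obj ⟨op R⟩} {U : F.obj ⟨op S⟩} {f : R ⟶ S}
    {φ ψ : V ⟶ (_root_.FibSite.invImage F f).obj U}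
    (h : (ι F R).map φ ≫ cart f U = (ι F R).map ψ ≫ cart f U) : φ = ψ := by
  obtain ⟨hb, hf⟩ := (Hom.ext_iff _ _).1 h
  rw [ι_map_comp_fiber, ι_map_comp_fiber] at hf
  have : IsIso (cart f U).fiber := inferInstanceAs (IsIso (𝟙 ((_root_.FibSite.invImage F f).obj U)))
  simp only [eqToHom_trans, Category.assoc] at hf
  exact (cancel_mono ((cart f U).fiber ≫ eqToHom _)).1 hf

/-- Naturality of the cartesian lift. -/
lemma cart_naturality {R S : 𝒮} (f : R ⟶ S) {U U' : F.obj ⟨op S⟩} (r : U ⟶ U') :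
    (ι F R).map ((_root_.FibSite.invImage F f).map r) ≫ cart f U' = cart f U ≫ (ι F S).map r := by
  refine Hom.ext _ _ ((ι_map_comp_base ((_root_.FibSite.invImage F f).map r) (cart f U')).trans (Category.comp_id f).symm) ?_
  rw [ι_map_comp_fiber]
  dsimp [ι, cart]
  simp only [categoryStruct_comp_fiber, Category.id_comp, Functor.map_comp, Category.assoc,
    op_id, Quiver.Hom.id_toLoc]
  erw [F.mapComp_id_left_inv_app]
  simp [← Functor.map_comp_assoc, ← Cat.Hom₂.comp_app]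

/-- The cartesian lifts as a natural transformation. -/
def cartNat {R S : 𝒮} (f : R ⟶ S) : _root_.FibSite.invImage F f ⋙ ι F R ⟶ ι F S where
  app U := cart f U
  naturality _ _ r := cart_naturality f r

lemma ι_map_base {S : 𝒮} {V W : F.obj ⟨op S⟩} (κ : V ⟶ W) : ((ι F S).map κ).base = 𝟙 S := rfl

/-- A morphism over the identity is vertical. -/
lemma exists_eq_ι_map {S : 𝒮} {V U : F.obj ⟨op S⟩} (g : (ι F S).obj V ⟶ (ι F S).obj U)
    (hg : g.base = 𝟙 S) : ∃ κ : V ⟶ U, g = (ι F S).map κ := by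
  obtain ⟨b, φ⟩ := g
  change b = 𝟙 S at hg
  subst hg
  exact ⟨φ ≫ (F.mapId ⟨op S⟩).hom.toNatTrans.app U, by
    refine Hom.ext _ _ rfl ?_
    simp [← Cat.Hom₂.comp_app]
    exact (Category.comp_id _).symm⟩

lemma ι_map_injective {S : 𝒮} {V U : F.obj ⟨op S⟩} {κ κ' : V ⟶ U}
    (h : (ι F S).map κ = (ι F S).map κ') : κ = κ' := by
  obtain ⟨hb, hf⟩ := (Hom.ext_iff _ _).1 h
  simpa [cancel_mono, ← Cat.Hom.toNatIso_inv] using hf

end GrothLib.FibSite
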