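import Groth.Agent.Lib.FibSite.Coextend
import Mathlib.CategoryTheory.Sites.LocallyBijective

/-!
# Bicoverings of representables of a fibre and of the total site
-/

set_option backward.isDefEq.respectTransparency false
set_option backward.isDefEq.respectTransparency.types false

universe u

open CategoryTheory CategoryTheory.Limits Opposite Pseudofunctor Pseudofunctor.CoGrothendieck

namespace GrothLib.FibSite

variable {𝒮 : Type u} [SmallCategory 𝒮] {F : Pseudofunctor (LocallyDiscrete 𝒮ᵒᵖ) Cat.{u, u}}
  {J : _root_.FibSite.Topologies F} {i : 𝒮}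

/-- The unit of the left Kan extension along a fibre inclusion. -/
noncomputable abbrev lanEta (R : (F.obj ⟨op i⟩)ᵒᵖ ⥤ Type u) :
    R ⟶ (ι F i).op ⋙ (ι F i).op.lan.obj R :=
  (ι F i).op.lanUnit.app R

theorem exists_eq_map_lanEta (R : (F.obj ⟨op i⟩)ᵒᵖ ⥤ Type u) {Z : ∫ᶜ F}
    (x : ((ι F i).op.lan.obj R).obj (op Z)) :
    ∃ (W : F.obj ⟨op i⟩) (g : Z ⟶ (ι F i).obj W) (r : R.obj (op W)),
      x = ((ι F i).op.lan.obj R).map g.op ((lanEta R).app (op W) r) := by
  obtain ⟨a, r, h⟩ := Types.jointly_surjective _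
    ((ι F i).op.isPointwiseLeftKanExtensionLeftKanExtensionUnit R (op Z)) x
  exact ⟨a.left.unop, a.hom.unop, r, h.symm⟩

theorem lanEta_injective (R : (F.obj ⟨op i⟩)ᵒᵖ ⥤ Type u) (W : (F.obj ⟨op i⟩)ᵒᵖ) :
    Function.Injective ((lanEta R).app W) := by
  classical
  let R' : (F.obj ⟨op i⟩)ᵒᵖ ⥤ Type u :=
    { obj := fun V => R.obj V ⊕ PUnit.{u + 1}
      map := fun b => TypeCat.ofHom (Sum.map (R.map b) id)
      map_id := fun V => by
        ext (x | x) <;> simp
      map_comp := fun b c => by
        ext (x | x) <;> simp }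
  let φ : ∀ (W : F.obj ⟨op i⟩) (r : R.obj (op W)) (V : F.obj ⟨op i⟩),
      ((ι F i).obj V ⟶ (ι F i).obj W) → R'.obj (op V) := fun W r V g =>
    if h : g.base = 𝟙 i then Sum.inl (R.map (exists_eq_ι_map g h).choose.op r) else Sum.inr PUnit.unit
  have hφ1 : ∀ W r V (κ : V ⟶ W), φ W r V ((ι F i).map κ) = Sum.inl (R.map κ.op r) := fun W r V κ => by
    have h : ((ι F i).map κ).base = 𝟙 i := rfl
    simp only [φ, dif_pos h]
    rw [ι_map_injective (exists_eq_ι_map ((ι F i).map κ) h).choose_spec.symm]
  have hφ2 : ∀ W r V g, ¬ g.base = 𝟙 i → φ W r V g = Sum.inr PUnit.unit := fun W r V g h => dif_neg h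
  have hφ : ∀ W r (V V' : F.obj ⟨op i⟩) (b : V' ⟶ V) (g : (ι F i).obj V ⟶ (ι F i).obj W),
      φ W r V' ((ι F i).map b ≫ g) = R'.map b.op (φ W r V g) := fun W r V V' b g => by
    by_cases h : g.base = 𝟙 i
    · obtain ⟨κ, rfl⟩ := exists_eq_ι_map g h
      rw [← Functor.map_comp, hφ1, hφ1, op_comp, Functor.map_comp_apply]
      rfl
    · rw [hφ2 _ _ _ _ h, hφ2 _ _ _ _ (by rwa [ι_map_comp_base])]
      rfl
  choose x hx using fun (W : F.obj ⟨op i⟩) (r : R.obj (op W)) =>
    exists_ranEval i R' (Z := (ι F i).obj W) (φ W r) (hφ W r)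
  let t : R ⟶ (ι F i).op ⋙ (ι F i).op.ran.obj R' :=
    { app := fun V => TypeCat.ofHom (x V.unop)
      naturality := fun V V' b => by
        apply ConcreteCategory.hom_ext
        intro r
        refine ranEval_ext i R' fun Y g => ?_
        refine (hx _ _ Y g).trans ?_
        have e : ranEval i R' (((ι F i).op.ran.obj R').map ((ι F i).map b.unop).op (x V.unop r)) g =
            ranEval i R' (x V.unop r) (g ≫ (ι F i).map b.unop) := by
          rw [ranEval, ranEval, op_comp, Functor.map_comp_apply]
        refine Eq.trans ?_ e.symm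
        refine Eq.trans ?_ (hx _ _ Y _).symm
        by_cases h : g.base = 𝟙 i
        · obtain ⟨κ, rfl⟩ := exists_eq_ι_map g h
          rw [← Functor.map_comp, hφ1, hφ1, op_comp, Functor.map_comp_apply]
          rfl
        · have h' : ¬ (g ≫ (ι F i).map b.unop).base = 𝟙 i := by
            intro h'
            exact h ((Category.comp_id g.base).symm.trans h')
          rw [hφ2 _ _ _ _ h, hφ2 _ _ _ _ h'] }
  intro a b hab
  have hfac := ((ι F i).op.lanAdjunction (Type u)).homEquiv_unit (f :=
    (((ι F i).op.lanAdjunction (Type u)).homEquiv R ((ι F i).op.ran.obj R')).symm t)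
  rw [Equiv.apply_symm_apply, Functor.lanAdjunction_unit] at hfac
  have hab' : t.app W a = t.app W b := by
    rw [hfac]
    exact congrArg (((((ι F i).op.lanAdjunction (Type u)).homEquiv R ((ι F i).op.ran.obj R')).symm t).app
      ((ι F i).op.obj W)) hab
  have h1 := congrArg (fun y => ranEval i R' y ((ι F i).map (𝟙 W.unop))) hab'
  replace h1 := (hx _ a _ _).symm.trans (h1.trans (hx _ b _ _))
  rw [hφ1, hφ1, Sum.inl.injEq, op_id, CategoryTheory.Functor.map_id] at h1
  exact h1

variable (hF : _root_.FibSite.IsPreFibSite F J)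

include hF in
/-- A morphism of presheaves on a fibre is bicovering if its extension to the total category is. -/
theorem W_of_W_lan {R T : (F.obj ⟨op i⟩)ᵒᵖ ⥤ Type u} (u' : R ⟶ T)
    (h : (_root_.FibSite.totalTopology F J).W ((ι F i).op.lan.map u')) : (J i).W u' := by
  haveI := h.isLocallyInjective
  haveI := h.isLocallySurjective
  haveI := isCocontinuous_ι hF i
  have hnat : ∀ (W : F.obj ⟨op i⟩) (r : R.obj (op W)),
      ((ι F i).op.lan.map u').app (op ((ι F i).obj W)) ((lanEta R).app (op W) r) =
        (lanEta T).app (op W) (u'.app (op W) r) := fun W r =>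
    (ConcreteCategory.congr_hom (NatTrans.congr_app ((ι F i).op.lanUnit.naturality u') (op W)) r).symm
  let θ : T ⟶ (ι F i).op ⋙ (CoGrothendieck.forget F).op ⋙ yoneda.obj i :=
    { app := fun V => TypeCat.ofHom fun _ => 𝟙 i
      naturality := fun V V' b => by
        apply ConcreteCategory.hom_ext
        intro s
        exact (Category.comp_id (𝟙 i)).symm }
  let ψ := (((ι F i).op.lanAdjunction (Type u)).homEquiv T
    ((CoGrothendieck.forget F).op ⋙ yoneda.obj i)).symm θ
  have hψ : ∀ V s, ψ.app (op ((ι F i).obj V)) ((lanEta T).app (op V) s) = 𝟙 i := fun V s => by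
    have hfac := ((ι F i).op.lanAdjunction (Type u)).homEquiv_unit (f := ψ)
    rw [Equiv.apply_symm_apply, Functor.lanAdjunction_unit] at hfac
    exact (ConcreteCategory.congr_hom (NatTrans.congr_app hfac (op V)) s).symm
  rw [GrothendieckTopology.W_iff_isLocallyBijective]
  constructor
  · refine ⟨fun {X} a b hab => ?_⟩
    have h1 : ((ι F i).op.lan.map u').app _ ((lanEta R).app (op X.unop) a) =
        ((ι F i).op.lan.map u').app _ ((lanEta R).app (op X.unop) b) :=
      (hnat _ a).trans ((congrArg _ hab).trans (hnat _ b).symm)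
    refine (J i).superset_covering ?_ ((ι F i).cover_lift (J i) (_root_.FibSite.totalTopology F J)
      (Presheaf.equalizerSieve_mem (_root_.FibSite.totalTopology F J) ((ι F i).op.lan.map u') _ _ h1))
    intro V k hk
    apply lanEta_injective R (op V)
    refine (NatTrans.naturality_apply (lanEta R) k.op a).trans ?_
    exact hk.trans (NatTrans.naturality_apply (lanEta R) k.op b).symm
  · refine ⟨fun {V} s => ?_⟩
    refine (J i).superset_covering ?_ ((ι F i).cover_lift (J i) (_root_.FibSite.totalTopology F J)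
      (Presheaf.imageSieve_mem (_root_.FibSite.totalTopology F J) ((ι F i).op.lan.map u')
        ((lanEta T).app (op V) s)))
    rintro V' k ⟨x, hx⟩
    obtain ⟨W, g, r, rfl⟩ := exists_eq_map_lanEta R x
    have hb : g.base = 𝟙 i := by
      have h3 := congrArg (ψ.app (op ((ι F i).obj V'))) hx
      rw [NatTrans.naturality_apply] at h3
      erw [hnat, NatTrans.naturality_apply ψ, NatTrans.naturality_apply ψ, hψ, hψ] at h3
      exact ((Category.comp_id g.base).symm.trans h3).trans (Category.comp_id (𝟙 i))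
    obtain ⟨κ, rfl⟩ := exists_eq_ι_map g hb
    refine ⟨R.map κ.op r, ?_⟩
    apply lanEta_injective T (op V')
    rw [NatTrans.naturality_apply u', NatTrans.naturality_apply (lanEta T), NatTrans.naturality_apply (lanEta T)]
    rw [NatTrans.naturality_apply] at hx
    erw [hnat] at hx
    exact hx

end GrothLib.FibSite
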