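import Groth.Agent.Lib.FibSite.Topology
import Mathlib.CategoryTheory.Adjunction.Triple
import Mathlib.CategoryTheory.Adjunction.Unique

/-!
# Restriction to fibres and its adjoints
-/

set_option backward.isDefEq.respectTransparency false
set_option backward.isDefEq.respectTransparency.types false

universe u v₃ u₃

open CategoryTheory CategoryTheory.Limits Opposite Pseudofunctor Pseudofunctor.CoGrothendieck

namespace GrothLib.FibSite

variable {𝒮 : Type u} [SmallCategory 𝒮] {F : Pseudofunctor (LocallyDiscrete 𝒮ᵒᵖ) Cat.{u, u}}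
  {J : _root_.FibSite.Topologies F}

lemma map_fiber_congr {R S : 𝒮} {U : F.obj ⟨op S⟩} {V : F.obj ⟨op R⟩} (Q : (F.obj ⟨op R⟩)ᵒᵖ ⥤ Type u)
    (q : ∀ f : R ⟶ S, Q.obj (op ((_root_.FibSite.invImage F f).obj U))) {f f' : R ⟶ S}
    (κ : V ⟶ (_root_.FibSite.invImage F f).obj U) (κ' : V ⟶ (_root_.FibSite.invImage F f').obj U)
    (e : (ι F R).map κ ≫ cart f U = (ι F R).map κ' ≫ cart f' U) :
    Q.map κ.op (q f) = Q.map κ'.op (q f') := by
  have hb : f = f' := by
    exact (base_ι_map_comp_cart f κ).symm.trans
      ((congrArg (fun a => a.base) e).trans (base_ι_map_comp_cart f' κ'))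
  subst hb
  rw [cart_left_cancel e]

section Ran

variable (i : 𝒮) (Q : (F.obj ⟨op i⟩)ᵒᵖ ⥤ Type u)

/-- The value at `(V, g)` of a section of the right Kan extension. -/
noncomputable def ranEval {Z : ∫ᶜ F} (x : ((ι F i).op.ran.obj Q).obj (op Z)) {V : F.obj ⟨op i⟩}
    (g : (ι F i).obj V ⟶ Z) : Q.obj (op V) :=
  (((ι F i).op.ranAdjunction (Type u)).counit.app Q).app (op V) (((ι F i).op.ran.obj Q).map g.op x)

lemma ranEval_comp {Z : ∫ᶜ F} (x : ((ι F i).op.ran.obj Q).obj (op Z)) {V V' : F.obj ⟨op i⟩}
    (b : V' ⟶ V) (g : (ι F i).obj V ⟶ Z) :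
    ranEval i Q x ((ι F i).map b ≫ g) = Q.map b.op (ranEval i Q x g) := by
  rw [ranEval, op_comp, Functor.map_comp_apply]
  exact NatTrans.naturality_apply (((ι F i).op.ranAdjunction (Type u)).counit.app Q) b.op _

lemma ranEval_eq {Z : ∫ᶜ F} (x : ((ι F i).op.ran.obj Q).obj (op Z)) {V : F.obj ⟨op i⟩}
    (g : (ι F i).obj V ⟶ Z) :
    ranEval i Q x g =
      ((((ι F i).op.ranAdjunction (Type u)).homEquiv (yoneda.obj Z) Q).symm
        (yonedaEquiv.symm x)).app (op V) g := by
  rw [Adjunction.homEquiv_counit]
  rfl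

theorem ranEval_ext {Z : ∫ᶜ F} {x y : ((ι F i).op.ran.obj Q).obj (op Z)}
    (h : ∀ (V : F.obj ⟨op i⟩) (g : (ι F i).obj V ⟶ Z), ranEval i Q x g = ranEval i Q y g) : x = y := by
  apply yonedaEquiv.symm.injective
  apply (((ι F i).op.ranAdjunction (Type u)).homEquiv (yoneda.obj Z) Q).symm.injective
  ext V g
  have := h V.unop g
  rw [ranEval_eq, ranEval_eq] at this
  exact this

theorem exists_ranEval {Z : ∫ᶜ F} (φ : ∀ (V : F.obj ⟨op i⟩), ((ι F i).obj V ⟶ Z) → Q.obj (op V))
    (hφ : ∀ (V V' : F.obj ⟨op i⟩) (b : V' ⟶ V) (g : (ι F i).obj V ⟶ Z),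
      φ V' ((ι F i).map b ≫ g) = Q.map b.op (φ V g)) :
    ∃ x : ((ι F i).op.ran.obj Q).obj (op Z), ∀ V g, ranEval i Q x g = φ V g := by
  let θ : (ι F i).op ⋙ yoneda.obj Z ⟶ Q :=
    { app := fun V => TypeCat.ofHom fun g => φ V.unop g
      naturality := fun V V' b => by
        apply ConcreteCategory.hom_ext
        intro g
        exact hφ V.unop V'.unop b.unop g }
  refine ⟨yonedaEquiv (((ι F i).op.ranAdjunction (Type u)).homEquiv (yoneda.obj Z) Q θ), fun V g => ?_⟩
  rw [ranEval_eq, Equiv.symm_apply_apply, Equiv.symm_apply_apply]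
  rfl

/-- Sections of the right Kan extension over `(j, W)` are families indexed by `i ⟶ j`. -/
theorem ranEval_cart_bijective (j : 𝒮) (W : F.obj ⟨op j⟩) :
    Function.Bijective fun (x : ((ι F i).op.ran.obj Q).obj (op ((ι F j).obj W))) (f : i ⟶ j) =>
      ranEval i Q x (cart f W) := by
  constructor
  · intro x y h
    refine ranEval_ext i Q fun V g => ?_
    rw [eq_ι_map_comp_cart g, ranEval_comp, ranEval_comp]
    exact congrArg (Q.map _) (congrFun h g.base)
  · intro q
    obtain ⟨x, hx⟩ := exists_ranEval i Q (Z := (ι F j).obj W)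
      (fun V g => Q.map g.fiber.op (q g.base)) (fun V V' b g => by
        refine (map_fiber_congr (U := W) Q q ((ι F i).map b ≫ g).fiber (b ≫ g.fiber) ?_).trans ?_
        · refine (eq_ι_map_comp_cart ((ι F i).map b ≫ g)).symm.trans ?_
          refine (congrArg ((ι F i).map b ≫ ·) (eq_ι_map_comp_cart g)).trans ?_
          refine (Category.assoc _ _ _).symm.trans ?_
          exact congrArg (· ≫ cart g.base W) ((ι F i).map_comp b g.fiber).symm
        · rw [op_comp, Functor.map_comp_apply]
          rfl)
    refine ⟨x, funext fun f => ?_⟩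
    change ranEval i Q x (cart f W) = q f
    rw [hx]
    change Q.map (𝟙 ((_root_.FibSite.invImage F f).obj W)).op (q f) = q f
    rw [op_id, CategoryTheory.Functor.map_id]
    rfl

/-- If `i` has only the trivial endomorphism, the right Kan extension restricts to the identity. -/
theorem ranEval_id_bijective (hi : ∀ f : i ⟶ i, f = 𝟙 i) (W : F.obj ⟨op i⟩) :
    Function.Bijective fun (x : ((ι F i).op.ran.obj Q).obj (op ((ι F i).obj W))) =>
      ranEval i Q x (𝟙 ((ι F i).obj W)) := by
  constructor
  · intro x y h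
    refine ranEval_ext i Q fun V g => ?_
    obtain ⟨κ, rfl⟩ := exists_eq_ι_map g (hi _)
    rw [← Category.comp_id ((ι F i).map κ), ranEval_comp, ranEval_comp]
    exact congrArg (Q.map κ.op) h
  · intro v
    obtain ⟨x, hx⟩ := exists_ranEval i Q (Z := (ι F i).obj W)
      (fun V g => Q.map (exists_eq_ι_map g (hi _)).choose.op v) (fun V V' b g => by
        rw [← Functor.map_comp_apply, ← op_comp]
        refine congrArg (fun κ => Q.map (Quiver.Hom.op κ) v) ?_
        apply ι_map_injective
        rw [Functor.map_comp]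
        refine (exists_eq_ι_map _ (hi _)).choose_spec.symm.trans ?_
        exact congrArg ((ι F i).map b ≫ ·) (exists_eq_ι_map g (hi _)).choose_spec)
    refine ⟨x, ?_⟩
    change ranEval i Q x (𝟙 _) = v
    rw [hx]
    have : (exists_eq_ι_map (F := F) (𝟙 ((ι F i).obj W)) (hi _)).choose = 𝟙 W := ι_map_injective
      ((exists_eq_ι_map (F := F) (𝟙 ((ι F i).obj W)) (hi _)).choose_spec.symm.trans
        (CategoryTheory.Functor.map_id _ _).symm)
    rw [this, op_id, CategoryTheory.Functor.map_id]
    rfl

end Ran

section Restr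

variable {A : Type u₃} [Category.{v₃} A]
  [∀ S : 𝒮, (ι F S).IsContinuous (J S) (_root_.FibSite.totalTopology F J)]
  [∀ (R S : 𝒮) (f : R ⟶ S), (_root_.FibSite.invImage F f).IsContinuous (J S) (J R)]

/-- `cartNat` on sheaves. -/
noncomputable def gamma {R S : 𝒮} (f : R ⟶ S) :
    _root_.FibSite.restr F J A S ⟶
      _root_.FibSite.restr F J A R ⋙ (_root_.FibSite.invImage F f).sheafPushforwardContinuous A (J S) (J R) where
  app P := ⟨Functor.whiskerRight (NatTrans.op (cartNat f)) P.obj⟩
  naturality P P' φ := Sheaf.hom_ext (by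
    ext U
    exact (φ.hom.naturality (cart f U.unop).op).symm)

variable [∀ S : 𝒮, (ι F S).IsCocontinuous (J S) (_root_.FibSite.totalTopology F J)]

/-- The counit of `restr ⊣ coextend`. -/
noncomputable abbrev eps (i : 𝒮) :=
  ((ι F i).sheafAdjunctionCocontinuous (Type u) (J i) (_root_.FibSite.totalTopology F J)).counit

/-- The projections of `restr_j (coextend_i a)`. -/
noncomputable def proj {i j : 𝒮} (f : i ⟶ j) (a : Sheaf (J i) (Type u)) :
    (_root_.FibSite.restr F J (Type u) j).obj ((_root_.FibSite.coextend F J (Type u) i).obj a) ⟶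
      ((_root_.FibSite.invImage F f).sheafPushforwardContinuous (Type u) (J j) (J i)).obj a :=
  (gamma f).app _ ≫
    ((_root_.FibSite.invImage F f).sheafPushforwardContinuous (Type u) (J j) (J i)).map ((eps i).app a)

lemma proj_apply {i j : 𝒮} (f : i ⟶ j) (a : Sheaf (J i) (Type u)) (W : (F.obj ⟨op j⟩)ᵒᵖ)
    (x : ((ι F i).op.ran.obj a.obj).obj (op ((ι F j).obj W.unop))) :
    (proj f a).hom.app W x = ranEval i a.obj x (cart f W.unop) := by
  change ((eps i).app a).hom.app _ _ = _
  rw [eps, Functor.sheafAdjunctionCocontinuous_counit_app_hom]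
  rfl

lemma proj_bijective {i j : 𝒮} (a : Sheaf (J i) (Type u)) (W : (F.obj ⟨op j⟩)ᵒᵖ) :
    Function.Bijective fun (x : ((_root_.FibSite.restr F J (Type u) j).obj
      ((_root_.FibSite.coextend F J (Type u) i).obj a)).obj.obj W) (f : i ⟶ j) => (proj f a).hom.app W x := by
  have h := ranEval_cart_bijective i a.obj j W.unop
  have e : (fun (x : ((_root_.FibSite.restr F J (Type u) j).obj
      ((_root_.FibSite.coextend F J (Type u) i).obj a)).obj.obj W) (f : i ⟶ j) => (proj f a).hom.app W x) =
      fun x f => ranEval i a.obj x (cart f W.unop) :=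
    funext fun x => funext fun f => proj_apply f a W x
  rw [e]
  exact h

/-- The projections form a limit fan. -/
noncomputable def isLimitProj (i j : 𝒮) (a : Sheaf (J i) (Type u)) :
    IsLimit (Fan.mk _ (fun f : i ⟶ j => proj f a)) :=
  Fan.IsLimit.mk _
    (fun s => ⟨{
      app := fun W => TypeCat.ofHom fun x => ((Equiv.ofBijective _ (proj_bijective a W)).symm
        fun f => (s.proj f).hom.app W x)
      naturality := fun W W' b => by
        apply ConcreteCategory.hom_ext
        intro x
        apply (proj_bijective a W').1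
        funext f
        have h1 := congrFun (Equiv.apply_symm_apply (Equiv.ofBijective _ (proj_bijective a W))
          (fun f => (s.proj f).hom.app W x)) f
        have h2 := congrFun (Equiv.apply_symm_apply (Equiv.ofBijective _ (proj_bijective a W'))
          (fun f => (s.proj f).hom.app W' (s.pt.obj.map b x))) f
        refine h2.trans ?_
        refine (NatTrans.naturality_apply (s.proj f).hom b x).trans ?_
        refine (congrArg _ h1.symm).trans ?_
        exact (NatTrans.naturality_apply (proj f a).hom b _).symm }⟩)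
    (fun s f => Sheaf.hom_ext (by
      ext W x
      exact congrFun (Equiv.apply_symm_apply (Equiv.ofBijective _ (proj_bijective a W))
        (fun f => (s.proj f).hom.app W x)) f))
    (fun s m hm => Sheaf.hom_ext (by
      ext W x
      apply (proj_bijective a W).1
      funext f
      refine Eq.trans ?_ (congrFun (Equiv.apply_symm_apply (Equiv.ofBijective _ (proj_bijective a W))
        (fun f => (s.proj f).hom.app W x)) f).symm
      exact congrArg (fun φ : s.pt ⟶ _ => φ.hom.app W x) (hm f)))

theorem isIso_eps (i : 𝒮) (hi : ∀ f : i ⟶ i, f = 𝟙 i) : IsIso (eps (J := J) i) := by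
  suffices ∀ a, IsIso ((eps (J := J) i).app a) from NatIso.isIso_of_isIso_app _
  intro a
  have : ∀ W, IsIso (((eps (J := J) i).app a).hom.app W) := fun W => by
    rw [isIso_iff_bijective]
    have h := ranEval_id_bijective i a.obj hi W.unop
    have e : (⇑(ConcreteCategory.hom (((eps (J := J) i).app a).hom.app W))) =
        fun x => ranEval i a.obj x (𝟙 ((ι F i).obj W.unop)) := funext fun x => by
      rw [eps, Functor.sheafAdjunctionCocontinuous_counit_app_hom, ranEval, op_id,
        CategoryTheory.Functor.map_id]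
      rfl
    rw [e]
    exact h
  have : IsIso ((eps (J := J) i).app a).hom := NatIso.isIso_of_isIso_app _
  exact (isIso_iff_of_reflects_iso ((eps (J := J) i).app a) (sheafToPresheaf _ _)).1 this

section Extend

variable [∀ S : 𝒮, ((ι F S).sheafPushforwardContinuous (Type u) (J S) (_root_.FibSite.totalTopology F J)).IsRightAdjoint]

/-- The unit of `extend ⊣ restr`. -/
noncomputable abbrev eta (i : 𝒮) :=
  ((ι F i).sheafAdjunctionContinuous (Type u) (J i) (_root_.FibSite.totalTopology F J)).unit

variable [∀ (R S : 𝒮) (f : R ⟶ S),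
  ((_root_.FibSite.invImage F f).sheafPushforwardContinuous (Type u) (J S) (J R)).IsRightAdjoint]

/-- The components of `restr_j (extend_i a)`. -/
noncomputable def leg {i j : 𝒮} (f : j ⟶ i) (a : Sheaf (J i) (Type u)) :
    ((_root_.FibSite.invImage F f).sheafPullback (Type u) (J i) (J j)).obj a ⟶
      (_root_.FibSite.restr F J (Type u) j).obj ((_root_.FibSite.extend F J (Type u) i).obj a) :=
  (((_root_.FibSite.invImage F f).sheafAdjunctionContinuous (Type u) (J i) (J j)).homEquiv _ _).symm
    ((eta i).app a ≫ (gamma f).app _)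

/-- The components form a colimit cofan. -/
noncomputable def isColimitLeg (i j : 𝒮) (a : Sheaf (J i) (Type u)) :
    IsColimit (Cofan.mk _ (fun f : j ⟶ i => leg f a)) :=
  let adjE := (ι F i).sheafAdjunctionContinuous (Type u) (J i) (_root_.FibSite.totalTopology F J)
  let adjC := (ι F j).sheafAdjunctionCocontinuous (Type u) (J j) (_root_.FibSite.totalTopology F J)
  let adjf := fun f : j ⟶ i => (_root_.FibSite.invImage F f).sheafAdjunctionContinuous (Type u) (J i) (J j)
  Cofan.IsColimit.mk _
    (fun s => (adjC.homEquiv _ _).symm ((adjE.homEquiv _ _).symm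
      (Fan.IsLimit.lift (isLimitProj j i s.pt) fun f => (adjf f).homEquiv _ _ (s.inj f))))
    (fun s f => by
      apply ((adjf f).homEquiv _ _).injective
      change ((adjf f).homEquiv _ _) (leg f a ≫ _) = _
      rw [Adjunction.homEquiv_naturality_right, leg, Equiv.apply_symm_apply]
      have h0 := Fan.IsLimit.fac (isLimitProj j i s.pt) (fun f => (adjf f).homEquiv _ _ (s.inj f)) f
      refine Eq.trans ?_ h0
      obtain ⟨h, hh⟩ : ∃ h, (adjE.homEquiv _ _) h =
          Fan.IsLimit.lift (isLimitProj j i s.pt) fun f => (adjf f).homEquiv _ _ (s.inj f) :=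
        (adjE.homEquiv _ _).surjective _
      rw [← hh, Equiv.symm_apply_apply, Adjunction.homEquiv_counit, Adjunction.homEquiv_unit]
      change _ = (adjE.unit.app a ≫ (_root_.FibSite.restr F J (Type u) i).map h) ≫ proj f s.pt
      rw [proj, Category.assoc, Category.assoc, Functor.map_comp]
      refine congrArg (adjE.unit.app a ≫ ·) ?_
      rw [← Category.assoc, ← Category.assoc ((_root_.FibSite.restr F J (Type u) i).map h)]
      exact congrArg (· ≫ _) ((gamma f).naturality h).symm)
    (fun s m hm => by
      apply (adjC.homEquiv _ _).injective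
      rw [Equiv.apply_symm_apply]
      apply (adjE.homEquiv _ _).injective
      rw [Equiv.apply_symm_apply]
      refine Fan.IsLimit.hom_ext (isLimitProj j i s.pt) _ _ fun f => ?_
      refine Eq.trans ?_ (Fan.IsLimit.fac (isLimitProj j i s.pt) _ f).symm
      refine Eq.trans ?_ (congrArg ((adjf f).homEquiv _ _) (hm f))
      change _ = (adjf f).homEquiv _ _ (leg f a ≫ m)
      rw [Adjunction.homEquiv_naturality_right, leg, Equiv.apply_symm_apply]
      rw [Adjunction.homEquiv_unit]
      change (adjE.unit.app a ≫ (_root_.FibSite.restr F J (Type u) i).map (adjC.homEquiv _ _ m)) ≫ proj f s.pt = _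
      rw [proj, Category.assoc, Category.assoc]
      refine congrArg (adjE.unit.app a ≫ ·) ?_
      rw [← Category.assoc]
      refine (congrArg (· ≫ _) ((gamma f).naturality (adjC.homEquiv _ _ m))).trans ?_
      rw [Category.assoc, Functor.comp_map, ← Functor.map_comp, ← Adjunction.homEquiv_counit,
        Equiv.symm_apply_apply])

end Extend

end Restr

end GrothLib.FibSite
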