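import Groth.Agent.Lib.FibSite.Coextend
import Mathlib.CategoryTheory.Limits.Preserves.Finite
import Mathlib.CategoryTheory.Sites.Limits

/-!
# Extension from the fibre over a terminal object
-/

set_option backward.isDefEq.respectTransparency false
set_option backward.isDefEq.respectTransparency.types false

universe u v₁ u₁ v₂ u₂ v₃ u₃

open CategoryTheory CategoryTheory.Limits Opposite Pseudofunctor Pseudofunctor.CoGrothendieck

namespace GrothLib.FibSite

/-- Preservation of a limit is detected by a family of functors jointly reflecting isomorphisms. -/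
theorem preservesLimit_of_jointly_reflects {C : Type u₁} [Category.{v₁} C] {D : Type u₂} [Category.{v₂} D]
    {ι' : Type u} {E : ι' → Type u₃} [∀ j, Category.{v₃} (E j)] (G : C ⥤ D) (R : ∀ j, D ⥤ E j)
    {K : Type*} [Category K] (P : K ⥤ C) [HasLimit P] [HasLimit (P ⋙ G)]
    [∀ j, PreservesLimit (P ⋙ G) (R j)] (hG : ∀ j, PreservesLimit P (G ⋙ R j))
    (hR : ∀ {X Y : D} (φ : X ⟶ Y), (∀ j, IsIso ((R j).map φ)) → IsIso φ) : PreservesLimit P G := by
  haveI : IsIso (limit.post P G) := hR _ fun j => by
    haveI := hG j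
    haveI : HasLimit ((P ⋙ G) ⋙ R j) :=
      ⟨⟨⟨_, isLimitOfPreserves (R j) (limit.isLimit (P ⋙ G))⟩⟩⟩
    haveI : HasLimit (P ⋙ G ⋙ R j) := ‹HasLimit ((P ⋙ G) ⋙ R j)›
    have h := limit.post_post P G (R j)
    haveI : IsIso ((R j).map (limit.post P G) ≫ limit.post (P ⋙ G) (R j)) :=
      h ▸ inferInstanceAs (IsIso (limit.post P (G ⋙ R j)))
    exact IsIso.of_isIso_comp_right _ (limit.post (P ⋙ G) (R j))
  exact preservesLimit_of_isIso_post _ _

variable {𝒮 : Type u} [SmallCategory 𝒮] {F : Pseudofunctor (LocallyDiscrete 𝒮ᵒᵖ) Cat.{u, u}}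
  {J : _root_.FibSite.Topologies F}
  [∀ S : 𝒮, (ι F S).IsContinuous (J S) (_root_.FibSite.totalTopology F J)]

/-- The restrictions jointly reflect isomorphisms. -/
theorem isIso_of_restr {A : Type u₃} [Category.{v₃} A] {P Q : _root_.FibSite.TotSh F J A} (φ : P ⟶ Q)
    (h : ∀ S, IsIso ((_root_.FibSite.restr F J A S).map φ)) : IsIso φ := by
  have : ∀ X, IsIso (φ.hom.app X) := fun ⟨⟨S, U⟩⟩ => by
    haveI := h S
    exact inferInstanceAs (IsIso (((sheafToPresheaf _ _).map ((_root_.FibSite.restr F J A S).map φ)).app (op U)))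
  have : IsIso φ.hom := NatIso.isIso_of_isIso_app _
  exact (isIso_iff_of_reflects_iso φ (sheafToPresheaf _ _)).1 this

variable [∀ (R S : 𝒮) (f : R ⟶ S), (_root_.FibSite.invImage F f).IsContinuous (J S) (J R)]
  [∀ S : 𝒮, (ι F S).IsCocontinuous (J S) (_root_.FibSite.totalTopology F J)]
  [∀ S : 𝒮, ((ι F S).sheafPushforwardContinuous (Type u) (J S) (_root_.FibSite.totalTopology F J)).IsRightAdjoint]
  [∀ (R S : 𝒮) (f : R ⟶ S),
    ((_root_.FibSite.invImage F f).sheafPushforwardContinuous (Type u) (J S) (J R)).IsRightAdjoint]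

/-- `leg` as a natural transformation. -/
noncomputable def legNat {i j : 𝒮} (f : j ⟶ i) :
    (_root_.FibSite.invImage F f).sheafPullback (Type u) (J i) (J j) ⟶
      _root_.FibSite.extend F J (Type u) i ⋙ _root_.FibSite.restr F J (Type u) j where
  app a := leg f a
  naturality a b r := by
    apply (((_root_.FibSite.invImage F f).sheafAdjunctionContinuous (Type u) (J i) (J j)).homEquiv _ _).injective
    dsimp only [Functor.comp_obj, Functor.comp_map]
    rw [leg, leg, Adjunction.homEquiv_naturality_left, Equiv.apply_symm_apply,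
      Adjunction.homEquiv_naturality_right, Equiv.apply_symm_apply]
    rw [Category.assoc]
    have h1 := (eta i).naturality r
    refine (Category.assoc _ _ _).symm.trans ?_
    rw [Functor.id_map] at h1
    rw [h1, Category.assoc]
    exact congrArg (_ ≫ ·) ((gamma f).naturality _)

/-- Over a terminal object, extension followed by restriction is the inverse image. -/
theorem isIso_legNat {i j : 𝒮} (f : j ⟶ i) (hf : ∀ g, g = f) : IsIso (legNat (J := J) f) := by
  suffices ∀ a, IsIso ((legNat (J := J) f).app a) from NatIso.isIso_of_isIso_app _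
  intro a
  let h := isColimitLeg (J := J) i j a
  refine ⟨Cofan.IsColimit.desc h (fun g => eqToHom (by rw [hf g])), ?_, ?_⟩
  · exact (Cofan.IsColimit.fac h _ f).trans (eqToHom_refl _ _)
  · refine Cofan.IsColimit.hom_ext h _ _ fun g => ?_
    obtain rfl : g = f := hf g
    rw [← Category.assoc]
    erw [Cofan.IsColimit.fac]
    rw [eqToHom_refl]
    exact (Category.id_comp _).trans (Category.comp_id _).symm

end GrothLib.FibSite
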