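import Mathlib.CategoryTheory.Extensive
import Mathlib.CategoryTheory.Limits.Constructions.LimitsOfProductsAndEqualizers

/-!
# Pullbacks and coproducts in extensive categories
-/

universe v u v' u'

open CategoryTheory CategoryTheory.Limits

namespace GrothLib.ExtensivePullback

variable {D : Type u} [Category.{v} D]

/-- A map of coproducts is cartesian over the left inclusion. -/
theorem isPullback_inl [FinitaryExtensive D] {X Y T T' : D} {c : BinaryCofan X T} {c' : BinaryCofan Y T'}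
    (hc : IsColimit c) (hc' : IsColimit c') (f : X ⟶ Y) (t : T ⟶ T') (φ : c.pt ⟶ c'.pt)
    (h₁ : f ≫ c'.inl = c.inl ≫ φ) (h₂ : t ≫ c'.inr = c.inr ≫ φ) :
    IsPullback c.inl f φ c'.inl :=
  (((BinaryCofan.isVanKampen_iff c').1 (FinitaryExtensive.vanKampen c' hc') c f t φ h₁ h₂).1 ⟨hc⟩).1

/-- A coproduct of a pullback square with a constant is a pullback. -/
theorem isPullback_coprodMap [FinitaryExtensive D] [HasPullbacks D] {P X Y Z : D} (T : D)
    {a : P ⟶ X} {b : P ⟶ Y} {p : X ⟶ Z} {q : Y ⟶ Z} (h : IsPullback a b p q) :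
    IsPullback (coprod.map a (𝟙 T)) (coprod.map b (𝟙 T)) (coprod.map p (𝟙 T)) (coprod.map q (𝟙 T)) := by
  have hp := IsPullback.of_hasPullback (coprod.map p (𝟙 T)) (coprod.map q (𝟙 T))
  set Q := pullback (coprod.map p (𝟙 T)) (coprod.map q (𝟙 T))
  let l : P ⟶ Q := hp.lift (a ≫ coprod.inl) (b ≫ coprod.inl) (by simp [h.w_assoc])
  let r : T ⟶ Q := hp.lift coprod.inr coprod.inr (by simp)
  have hl : IsPullback l a (pullback.fst _ _) coprod.inl := by
    have h1 : IsPullback (b ≫ coprod.inl) a (coprod.map q (𝟙 T)) (p ≫ coprod.inl) := by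
      refine h.flip.paste_horiz ?_
      exact isPullback_inl (coprodIsCoprod Y T) (coprodIsCoprod Z T) q (𝟙 T) _
        (coprod.inl_map q (𝟙 T)).symm (coprod.inr_map q (𝟙 T)).symm
    refine IsPullback.of_right ?_ (hp.lift_fst _ _ _) hp.flip
    convert h1 using 1
    · exact hp.lift_snd _ _ _
    · exact coprod.inl_map p (𝟙 T)
  have hr : IsPullback r (𝟙 T) (pullback.fst _ _) coprod.inr := by
    have h1 : IsPullback (coprod.inr : T ⟶ Y ⨿ T) (𝟙 T) (coprod.map q (𝟙 T)) coprod.inr :=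
      ((((BinaryCofan.isVanKampen_iff _).1 (FinitaryExtensive.vanKampen _ (coprodIsCoprod Z T))
        (BinaryCofan.mk (coprod.inl : Y ⟶ Y ⨿ T) coprod.inr) q (𝟙 T) _
        (coprod.inl_map q (𝟙 T)).symm (coprod.inr_map q (𝟙 T)).symm).1 ⟨coprodIsCoprod Y T⟩)).2
    refine IsPullback.of_right ?_ ((hp.lift_fst _ _ _).trans (Category.id_comp _).symm) hp.flip
    convert h1 using 1
    · exact hp.lift_snd _ _ _
    · exact (coprod.inr_map p (𝟙 T)).trans (Category.id_comp _)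
  obtain ⟨hQ⟩ := ((BinaryCofan.isVanKampen_iff _).1 (FinitaryExtensive.vanKampen _ (coprodIsCoprod X T))
    (BinaryCofan.mk l r) a (𝟙 T) (pullback.fst _ _) hl.w.symm hr.w.symm).2 ⟨hl, hr⟩
  let e : Q ≅ P ⨿ T := hQ.coconePointUniqueUpToIso (colimit.isColimit (pair P T))
  have el : l ≫ e.hom = coprod.inl := hQ.comp_coconePointUniqueUpToIso_hom _ ⟨WalkingPair.left⟩
  have er : r ≫ e.hom = coprod.inr := hQ.comp_coconePointUniqueUpToIso_hom _ ⟨WalkingPair.right⟩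
  refine hp.of_iso e (Iso.refl _) (Iso.refl _) (Iso.refl _) ?_ ?_ (by simp) (by simp)
  · apply BinaryCofan.IsColimit.hom_ext hQ
    · change l ≫ pullback.fst _ _ ≫ 𝟙 _ = l ≫ e.hom ≫ coprod.map a (𝟙 T)
      rw [Category.comp_id, ← Category.assoc, el, coprod.inl_map]
      exact hp.lift_fst _ _ _
    · change r ≫ pullback.fst _ _ ≫ 𝟙 _ = r ≫ e.hom ≫ coprod.map a (𝟙 T)
      rw [Category.comp_id, ← Category.assoc, er, coprod.inr_map, Category.id_comp]
      exact hp.lift_fst _ _ _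
  · apply BinaryCofan.IsColimit.hom_ext hQ
    · change l ≫ pullback.snd _ _ ≫ 𝟙 _ = l ≫ e.hom ≫ coprod.map b (𝟙 T)
      rw [Category.comp_id, ← Category.assoc, el, coprod.inl_map]
      exact hp.lift_snd _ _ _
    · change r ≫ pullback.snd _ _ ≫ 𝟙 _ = r ≫ e.hom ≫ coprod.map b (𝟙 T)
      rw [Category.comp_id, ← Category.assoc, er, coprod.inr_map, Category.id_comp]
      exact hp.lift_snd _ _ _

/-- A retract of a pullback square is a pullback square. -/
theorem isPullback_of_retract {P X Y Z P' X' Y' Z' : D} {a : P ⟶ X} {b : P ⟶ Y} {p : X ⟶ Z} {q : Y ⟶ Z}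
    {a' : P' ⟶ X'} {b' : P' ⟶ Y'} {p' : X' ⟶ Z'} {q' : Y' ⟶ Z'} (h' : IsPullback a' b' p' q')
    (sq : CommSq a b p q)
    (sP : P ⟶ P') (sX : X ⟶ X') (sY : Y ⟶ Y') (sZ : Z ⟶ Z')
    (rP : P' ⟶ P) (rX : X' ⟶ X) (rY : Y' ⟶ Y)
    (hP : sP ≫ rP = 𝟙 P) (hX : sX ≫ rX = 𝟙 X) (hY : sY ≫ rY = 𝟙 Y)
    (hsa : sP ≫ a' = a ≫ sX) (hsb : sP ≫ b' = b ≫ sY)
    (hsp : sX ≫ p' = p ≫ sZ) (hsq : sY ≫ q' = q ≫ sZ)
    (hra : rP ≫ a = a' ≫ rX) (hrb : rP ≫ b = b' ≫ rY) : IsPullback a b p q := by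
  have hw : ∀ s : PullbackCone p q, (s.fst ≫ sX) ≫ p' = (s.snd ≫ sY) ≫ q' := fun s => by
    simp only [Category.assoc, hsp, hsq, reassoc_of% s.condition]
  refine ⟨sq, ⟨PullbackCone.IsLimit.mk _ (fun s => h'.lift (s.fst ≫ sX) (s.snd ≫ sY) (hw s) ≫ rP)
    (fun s => ?_) (fun s => ?_) fun s m hm₁ hm₂ => ?_⟩⟩
  · rw [Category.assoc, hra, h'.lift_fst_assoc, Category.assoc, hX, Category.comp_id]
  · rw [Category.assoc, hrb, h'.lift_snd_assoc, Category.assoc, hY, Category.comp_id]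
  · have : m ≫ sP = h'.lift (s.fst ≫ sX) (s.snd ≫ sY) (hw s) := by
      apply h'.hom_ext
      · rw [h'.lift_fst, Category.assoc, hsa, reassoc_of% hm₁]
      · rw [h'.lift_snd, Category.assoc, hsb, reassoc_of% hm₂]
    rw [← this, Category.assoc, hP, Category.comp_id]

/-- If the sum with a constant is a pullback, so is the summand. -/
theorem isPullback_of_cofan [FinitaryExtensive D] {P X Y Z T : D}
    {a : P ⟶ X} {b : P ⟶ Y} {p : X ⟶ Z} {q : Y ⟶ Z}
    {cP : BinaryCofan P T} {cX : BinaryCofan X T} {cY : BinaryCofan Y T} {cZ : BinaryCofan Z T}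
    (hP : IsColimit cP) (hX : IsColimit cX) (hY : IsColimit cY) (hZ : IsColimit cZ)
    {a' : cP.pt ⟶ cX.pt} {b' : cP.pt ⟶ cY.pt} {p' : cX.pt ⟶ cZ.pt} {q' : cY.pt ⟶ cZ.pt}
    (ha : a ≫ cX.inl = cP.inl ≫ a') (hb : b ≫ cY.inl = cP.inl ≫ b')
    (hp : p ≫ cZ.inl = cX.inl ≫ p') (hq : q ≫ cZ.inl = cY.inl ≫ q')
    (ha₂ : cX.inr = cP.inr ≫ a') (hq₂ : cZ.inr = cY.inr ≫ q') (sq : CommSq a b p q)
    (h : IsPullback a' b' p' q') : IsPullback a b p q := by
  have h1 : IsPullback cP.inl a a' cX.inl :=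
    isPullback_inl hP hX a (𝟙 T) a' ha ((Category.id_comp _).trans ha₂)
  have h2 : IsPullback cY.inl q q' cZ.inl :=
    isPullback_inl hY hZ q (𝟙 T) q' hq ((Category.id_comp _).trans hq₂)
  have h3 : IsPullback (cP.inl ≫ b') a q' (cX.inl ≫ p') := h1.paste_horiz h.flip
  exact (IsPullback.of_right (by rw [hb, hp]; exact h3) sq.w.symm h2).flip

end GrothLib.ExtensivePullback
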