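import Groth.Agent.Lib.FibSite.MapSite
import Groth.Agent.Lib.FibSite.Bicover
import Groth.Agent.Lib.FibSite.ExtensivePullback

/-!
# Fibres of a morphism of total sites
-/

set_option backward.isDefEq.respectTransparency false
set_option backward.isDefEq.respectTransparency.types false

universe u

open CategoryTheory CategoryTheory.Limits Opposite Pseudofunctor Pseudofunctor.CoGrothendieck
open scoped CategoryTheory.Pseudofunctor.StrongTrans

namespace GrothLib.FibSite

variable {𝒮 : Type u} [SmallCategory 𝒮] {F G : Pseudofunctor (LocallyDiscrete 𝒮ᵒᵖ) Cat.{u, u}}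
  {J : _root_.FibSite.Topologies F} {K : _root_.FibSite.Topologies G} (α : G ⟶ F)

theorem isContinuous_app (hF : _root_.FibSite.IsPreFibSite F J) (hG : _root_.FibSite.IsPreFibSite G K)
    [(CoGrothendieck.map α).IsContinuous (_root_.FibSite.totalTopology G K) (_root_.FibSite.totalTopology F J)]
    (S : 𝒮) : (α.app ⟨op S⟩).toFunctor.IsContinuous (K S) (J S) := by
  haveI := isContinuous_ι hG S
  haveI := Functor.isContinuous_comp (ι G S) (CoGrothendieck.map α) (K S)
    (_root_.FibSite.totalTopology G K) (_root_.FibSite.totalTopology F J)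
  haveI := Functor.isContinuous_of_iso (ιMapIso α S) (K S) (_root_.FibSite.totalTopology F J)
  let a : G.obj ⟨op S⟩ ⥤ F.obj ⟨op S⟩ := (α.app ⟨op S⟩).toFunctor
  refine ⟨fun P => Presieve.IsSheaf.comp_of_W_map_of_adjunction _ (a.op.lanAdjunction (Type u)) ?_ _
    ((isSheaf_iff_isSheaf_of_type _ _).1 P.property)⟩
  intro X T hT
  refine W_of_W_lan hF _ ?_
  exact Functor.W_map_of_adjunction_of_isContinuous (K S) (_root_.FibSite.totalTopology F J) (a ⋙ ι F S)
    (a.op.lan ⋙ (ι F S).op.lan)
    ((a.op.lanAdjunction (Type u)).comp ((ι F S).op.lanAdjunction (Type u)))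
    (Sieve.shrinkFunctor.{u} T).ι (Sieve.W_shrinkFunctor_ι_of_mem.{u} _ T hT)

section Pointed

variable {H : Pseudofunctor (LocallyDiscrete 𝒮ᵒᵖ) Cat.{u, u}} {M : _root_.FibSite.Topologies H}
  [∀ S : 𝒮, (ι H S).IsContinuous (M S) (_root_.FibSite.totalTopology H M)]
  [∀ S : 𝒮, (ι H S).IsCocontinuous (M S) (_root_.FibSite.totalTopology H M)] (i : 𝒮)

theorem eps_apply (a : Sheaf (M i) (Type u)) (W : (H.obj ⟨op i⟩)ᵒᵖ)
    (x : ((ι H i).op.ran.obj a.obj).obj (op ((ι H i).obj W.unop))) :
    ((eps (J := M) i).app a).hom.app W x = ranEval i a.obj x (𝟙 ((ι H i).obj W.unop)) := by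
  rw [eps, Functor.sheafAdjunctionCocontinuous_counit_app_hom, ranEval, op_id,
    CategoryTheory.Functor.map_id]
  rfl

/-- A pointed sheaf is a retract of the restriction of its coextension. -/
theorem exists_ptSection :
    ∃ s : ∀ (a : Sheaf (M i) (Type u)) (_ : (Functor.const _).obj PUnit.{u + 1} ⟶ a.obj),
        a ⟶ (_root_.FibSite.restr H M (Type u) i).obj ((_root_.FibSite.coextend H M (Type u) i).obj a),
      (∀ a pt, s a pt ≫ (eps (J := M) i).app a = 𝟙 a) ∧
      ∀ (a b : Sheaf (M i) (Type u)) (pa : (Functor.const _).obj PUnit.{u + 1} ⟶ a.obj)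
        (pb : (Functor.const _).obj PUnit.{u + 1} ⟶ b.obj) (f : a ⟶ b), pa ≫ f.hom = pb →
        s a pa ≫ (_root_.FibSite.restr H M (Type u) i).map ((_root_.FibSite.coextend H M (Type u) i).map f) =
          f ≫ s b pb := by
  classical
  let φ : ∀ (a : Sheaf (M i) (Type u)) (_ : (Functor.const _).obj PUnit.{u + 1} ⟶ a.obj)
      (W : H.obj ⟨op i⟩) (_ : a.obj.obj (op W)) (V : H.obj ⟨op i⟩),
      ((ι H i).obj V ⟶ (ι H i).obj W) → a.obj.obj (op V) := fun a pt W r V g =>
    if h : g.base = 𝟙 i then a.obj.map (exists_eq_ι_map g h).choose.op r else pt.app (op V) PUnit.unit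
  have hφ1 : ∀ a pt W r V (κ : V ⟶ W), φ a pt W r V ((ι H i).map κ) = a.obj.map κ.op r :=
    fun a pt W r V κ => by
      have h : ((ι H i).map κ).base = 𝟙 i := rfl
      simp only [φ, dif_pos h]
      rw [ι_map_injective (exists_eq_ι_map ((ι H i).map κ) h).choose_spec.symm]
  have hφ2 : ∀ a pt W r V g, ¬ g.base = 𝟙 i → φ a pt W r V g = pt.app (op V) PUnit.unit :=
    fun a pt W r V g h => dif_neg h
  have hφ : ∀ a pt W r (V V' : H.obj ⟨op i⟩) (b : V' ⟶ V) (g : (ι H i).obj V ⟶ (ι H i).obj W),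
      φ a pt W r V' ((ι H i).map b ≫ g) = a.obj.map b.op (φ a pt W r V g) := fun a pt W r V V' b g => by
    by_cases h : g.base = 𝟙 i
    · obtain ⟨κ, rfl⟩ := exists_eq_ι_map g h
      rw [← Functor.map_comp, hφ1, hφ1, op_comp, Functor.map_comp_apply]
    · rw [hφ2 _ _ _ _ _ _ h, hφ2 _ _ _ _ _ _ (by rwa [ι_map_comp_base])]
      exact NatTrans.naturality_apply pt b.op PUnit.unit
  choose x hx using fun a pt (W : H.obj ⟨op i⟩) r =>
    exists_ranEval i a.obj (Z := (ι H i).obj W) (φ a pt W r) (hφ a pt W r)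
  let t : ∀ (a : Sheaf (M i) (Type u)) (_ : (Functor.const _).obj PUnit.{u + 1} ⟶ a.obj),
      a.obj ⟶ (ι H i).op ⋙ (ι H i).op.ran.obj a.obj := fun a pt =>
    { app := fun V => TypeCat.ofHom (x a pt V.unop)
      naturality := fun V V' b => by
        apply ConcreteCategory.hom_ext
        intro r
        refine ranEval_ext i a.obj fun Y g => ?_
        refine (hx _ _ _ _ Y g).trans ?_
        have e : ranEval i a.obj (((ι H i).op.ran.obj a.obj).map ((ι H i).map b.unop).op (x a pt V.unop r)) g =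
            ranEval i a.obj (x a pt V.unop r) (g ≫ (ι H i).map b.unop) := by
          rw [ranEval, ranEval, op_comp, Functor.map_comp_apply]
        refine Eq.trans ?_ e.symm
        refine Eq.trans ?_ (hx _ _ _ _ Y _).symm
        by_cases h : g.base = 𝟙 i
        · obtain ⟨κ, rfl⟩ := exists_eq_ι_map g h
          rw [← Functor.map_comp, hφ1, hφ1, op_comp, Functor.map_comp_apply]
          rfl
        · have h' : ¬ (g ≫ (ι H i).map b.unop).base = 𝟙 i := by
            intro h'
            exact h ((Category.comp_id g.base).symm.trans h')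
          rw [hφ2 _ _ _ _ _ _ h, hφ2 _ _ _ _ _ _ h'] }
  refine ⟨fun a pt => ⟨t a pt⟩, fun a pt => ?_, fun a b pa pb f hf => ?_⟩
  · refine Sheaf.hom_ext ?_
    ext W r
    refine (eps_apply i a W _).trans ?_
    refine (congrArg (ranEval i a.obj _) ((ι H i).map_id W.unop).symm).trans ?_
    refine (hx a pt W.unop r _ _).trans ?_
    rw [hφ1, op_id, CategoryTheory.Functor.map_id]
    rfl
  · refine Sheaf.hom_ext ?_
    ext W r
    refine ranEval_ext i b.obj fun Y g => ?_
    have e : ∀ y, ranEval i b.obj (((ι H i).op.ran.map f.hom).app (op ((ι H i).obj W.unop)) y) g =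
        f.hom.app (op Y) (ranEval i a.obj y g) := fun y => by
      rw [ranEval, ranEval, ← NatTrans.naturality_apply ((ι H i).op.ran.map f.hom)]
      exact ConcreteCategory.congr_hom (NatTrans.congr_app
        (((ι H i).op.ranAdjunction (Type u)).counit.naturality f.hom) (op Y)) _
    refine (e (x a pa W.unop r)).trans ?_
    refine Eq.trans ?_ (hx b pb W.unop (f.hom.app W r) Y g).symm
    refine (congrArg _ (hx a pa W.unop r Y g)).trans ?_
    by_cases h : g.base = 𝟙 i
    · obtain ⟨κ, rfl⟩ := exists_eq_ι_map g h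
      rw [hφ1, hφ1]
      exact NatTrans.naturality_apply f.hom κ.op r
    · rw [hφ2 _ _ _ _ _ _ h, hφ2 _ _ _ _ _ _ h, ← hf]
      rfl

end Pointed

section Lex

open GrothLib.ExtensivePullback

variable [∀ S : 𝒮, (ι F S).IsContinuous (J S) (_root_.FibSite.totalTopology F J)]
  [∀ S : 𝒮, (ι F S).IsCocontinuous (J S) (_root_.FibSite.totalTopology F J)]
  [∀ S : 𝒮, (ι G S).IsContinuous (K S) (_root_.FibSite.totalTopology G K)]
  [∀ S : 𝒮, (ι G S).IsCocontinuous (K S) (_root_.FibSite.totalTopology G K)]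
  [(CoGrothendieck.map α).IsContinuous (_root_.FibSite.totalTopology G K) (_root_.FibSite.totalTopology F J)]
  [((CoGrothendieck.map α).sheafPushforwardContinuous (Type u) (_root_.FibSite.totalTopology G K)
    (_root_.FibSite.totalTopology F J)).IsRightAdjoint]
  (S : 𝒮) [(α.app ⟨op S⟩).toFunctor.IsContinuous (K S) (J S)]
  [((α.app ⟨op S⟩).toFunctor.sheafPushforwardContinuous (Type u) (K S) (J S)).IsRightAdjoint]
  [PreservesFiniteLimits ((CoGrothendieck.map α).sheafPullback (Type u)
    (_root_.FibSite.totalTopology G K) (_root_.FibSite.totalTopology F J))]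

theorem isPullback_map_sheafPullback_app {P X Y Z : Sheaf (K S) (Type u)}
    {a : P ⟶ X} {b : P ⟶ Y} {p : X ⟶ Z} {q : Y ⟶ Z} (h : IsPullback a b p q) :
    IsPullback (((α.app ⟨op S⟩).toFunctor.sheafPullback (Type u) (K S) (J S)).map a)
      (((α.app ⟨op S⟩).toFunctor.sheafPullback (Type u) (K S) (J S)).map b)
      (((α.app ⟨op S⟩).toFunctor.sheafPullback (Type u) (K S) (J S)).map p)
      (((α.app ⟨op S⟩).toFunctor.sheafPullback (Type u) (K S) (J S)).map q) := by
  let L := (α.app ⟨op S⟩).toFunctor.sheafPullback (Type u) (K S) (J S)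
  haveI : L.IsLeftAdjoint :=
    ((α.app ⟨op S⟩).toFunctor.sheafAdjunctionContinuous (Type u) (K S) (J S)).isLeftAdjoint
  let T : Sheaf (K S) (Type u) := ⊤_ _
  let u₀ : (Functor.const _).obj PUnit.{u + 1} ⟶ T.obj :=
    (terminalIsTerminal.isTerminalObj (sheafToPresheaf (K S) (Type u)) T).from _
  obtain ⟨s, hs₁, hs₂⟩ := exists_ptSection (M := K) S
  let pt : ∀ b : Sheaf (K S) (Type u), (Functor.const _).obj PUnit.{u + 1} ⟶ (b ⨿ T).obj :=
    fun b => u₀ ≫ (coprod.inr : T ⟶ b ⨿ T).hom
  have hpt : ∀ {b b' : Sheaf (K S) (Type u)} (f : b ⟶ b'), pt b ≫ (coprod.map f (𝟙 T)).hom = pt b' :=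
    fun f => by
      refine (Category.assoc _ _ _).trans (congrArg (u₀ ≫ ·) ?_)
      exact congrArg (fun t : T ⟶ _ => t.hom) ((coprod.inr_map f (𝟙 T)).trans (Category.id_comp _))
  let E := _root_.FibSite.coextend G K (Type u) S
  haveI : PreservesLimitsOfSize.{0, 0} E :=
    ((ι G S).sheafAdjunctionCocontinuous (Type u) (K S) _).rightAdjoint_preservesLimits
  haveI : PreservesLimitsOfSize.{0, 0} (_root_.FibSite.restr F J (Type u) S) :=
    ((ι F S).sheafAdjunctionContinuous (Type u) (J S) _).rightAdjoint_preservesLimits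
  have hB := isPullback_coprodMap T h
  have hB' : IsPullback ((E ⋙ _root_.FibSite.restr G K (Type u) S ⋙ L).map (coprod.map a (𝟙 T)))
      ((E ⋙ _root_.FibSite.restr G K (Type u) S ⋙ L).map (coprod.map b (𝟙 T)))
      ((E ⋙ _root_.FibSite.restr G K (Type u) S ⋙ L).map (coprod.map p (𝟙 T)))
      ((E ⋙ _root_.FibSite.restr G K (Type u) S ⋙ L).map (coprod.map q (𝟙 T))) := by
    let e := Functor.isoWhiskerLeft E (pullbackRestrIso (J := J) (K := K) α S)
    exact ((((hB.map E).map ((CoGrothendieck.map α).sheafPullback (Type u)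
      (_root_.FibSite.totalTopology G K) (_root_.FibSite.totalTopology F J))).map
        (_root_.FibSite.restr F J (Type u) S)).of_iso (e.app _) (e.app _) (e.app _) (e.app _)
      (e.hom.naturality _) (e.hom.naturality _) (e.hom.naturality _) (e.hom.naturality _))
  have hd : ∀ (b : Sheaf (K S) (Type u)),
      L.map (s _ (pt b)) ≫ L.map ((eps (J := K) S).app (b ⨿ T)) = 𝟙 (L.obj (b ⨿ T)) := fun b => by
    rw [← Functor.map_comp, hs₁, CategoryTheory.Functor.map_id]
  have hn : ∀ {b b' : Sheaf (K S) (Type u)} (f : b ⟶ b'),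
      L.map (s _ (pt b)) ≫ (E ⋙ _root_.FibSite.restr G K (Type u) S ⋙ L).map (coprod.map f (𝟙 T)) =
        L.map (coprod.map f (𝟙 T)) ≫ L.map (s _ (pt b')) := fun f => by
    rw [← Functor.map_comp]
    exact (L.map_comp _ _).symm.trans (congrArg L.map (hs₂ _ _ _ _ _ (hpt f)))
  have hr : ∀ {b b' : Sheaf (K S) (Type u)} (f : b ⟶ b'),
      L.map ((eps (J := K) S).app (b ⨿ T)) ≫ L.map (coprod.map f (𝟙 T)) =
        (E ⋙ _root_.FibSite.restr G K (Type u) S ⋙ L).map (coprod.map f (𝟙 T)) ≫
          L.map ((eps (J := K) S).app (b' ⨿ T)) := fun f => by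
    refine (L.map_comp _ _).symm.trans (Eq.trans ?_ (L.map_comp _ _))
    exact congrArg L.map ((eps (J := K) S).naturality (coprod.map f (𝟙 T))).symm
  have hLB := isPullback_of_retract hB' ((CommSq.mk hB.w).map L) _ _ _ _ _ _ _
    (hd P) (hd X) (hd Y) (hn a) (hn b) (hn p) (hn q) (hr a) (hr b)
  have hc : ∀ b : Sheaf (K S) (Type u),
      IsColimit (BinaryCofan.mk (L.map (coprod.inl : b ⟶ b ⨿ T)) (L.map (coprod.inr : T ⟶ b ⨿ T))) :=
    fun b => mapIsColimitOfPreservesOfIsColimit L _ _ (coprodIsCoprod b T)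
  have hinl : ∀ {b b' : Sheaf (K S) (Type u)} (f : b ⟶ b'),
      L.map f ≫ L.map (coprod.inl : b' ⟶ b' ⨿ T) =
        L.map (coprod.inl : b ⟶ b ⨿ T) ≫ L.map (coprod.map f (𝟙 T)) := fun f => by
    rw [← L.map_comp, ← L.map_comp, coprod.inl_map]
  have hinr : ∀ {b b' : Sheaf (K S) (Type u)} (f : b ⟶ b'),
      L.map (coprod.inr : T ⟶ b' ⨿ T) =
        L.map (coprod.inr : T ⟶ b ⨿ T) ≫ L.map (coprod.map f (𝟙 T)) := fun f => by
    rw [← L.map_comp, coprod.inr_map, Category.id_comp]
  exact isPullback_of_cofan (hc P) (hc X) (hc Y) (hc Z) (hinl a) (hinl b) (hinl p) (hinl q)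
    (hinr a) (hinr q) ((CommSq.mk h.w).map L) hLB

theorem preservesFiniteLimits_sheafPullback_app :
    PreservesFiniteLimits ((α.app ⟨op S⟩).toFunctor.sheafPullback (Type u) (K S) (J S)) := by
  haveI : PreservesLimitsOfShape WalkingCospan
      ((α.app ⟨op S⟩).toFunctor.sheafPullback (Type u) (K S) (J S)) := ⟨fun {D} => by
    haveI : PreservesLimit (cospan (D.map WalkingCospan.Hom.inl) (D.map WalkingCospan.Hom.inr))
        ((α.app ⟨op S⟩).toFunctor.sheafPullback (Type u) (K S) (J S)) := by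
      have h := IsPullback.of_hasPullback (D.map WalkingCospan.Hom.inl) (D.map WalkingCospan.Hom.inr)
      refine preservesLimit_of_preserves_limit_cone h.isLimit ?_
      exact (isLimitMapConePullbackConeEquiv _ h.w).symm (isPullback_map_sheafPullback_app α S h).isLimit
    exact preservesLimit_of_iso_diagram _ (diagramIsoCospan D).symm⟩
  haveI : PreservesLimitsOfSize.{0, 0} (_root_.FibSite.restr F J (Type u) S) :=
    ((ι F S).sheafAdjunctionContinuous (Type u) (J S) _).rightAdjoint_preservesLimits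
  haveI : PreservesLimitsOfSize.{0, 0} (_root_.FibSite.restr G K (Type u) S) :=
    ((ι G S).sheafAdjunctionContinuous (Type u) (K S) _).rightAdjoint_preservesLimits
  haveI : PreservesLimit (Functor.empty.{0} (Sheaf (K S) (Type u)))
      ((α.app ⟨op S⟩).toFunctor.sheafPullback (Type u) (K S) (J S)) := by
    let T₀ : _root_.FibSite.TotSh G K (Type u) := ⊤_ _
    have h1 : IsTerminal ((_root_.FibSite.restr G K (Type u) S).obj T₀) :=
      terminalIsTerminal.isTerminalObj _ _
    refine preservesLimit_of_preserves_limit_cone h1 ?_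
    refine (isLimitMapConeEmptyConeEquiv _ _).symm ?_
    exact ((terminalIsTerminal.isTerminalObj ((CoGrothendieck.map α).sheafPullback (Type u)
      (_root_.FibSite.totalTopology G K) (_root_.FibSite.totalTopology F J)) T₀).isTerminalObj
        (_root_.FibSite.restr F J (Type u) S) _).ofIso ((pullbackRestrIso α S).app T₀)
  haveI : PreservesLimitsOfShape (Discrete PEmpty.{1})
      ((α.app ⟨op S⟩).toFunctor.sheafPullback (Type u) (K S) (J S)) :=
    preservesLimitsOfShape_pempty_of_preservesTerminal _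
  exact preservesFiniteLimits_of_preservesTerminal_and_pullbacks _

end Lex

end GrothLib.FibSite
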