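import Groth.Agent.Lib.FibSite.ExtendTerminal

/-!
# Functors of total categories induced by cartesian functors
-/

set_option backward.isDefEq.respectTransparency false
set_option backward.isDefEq.respectTransparency.types false

universe u

open CategoryTheory CategoryTheory.Limits Opposite Pseudofunctor Pseudofunctor.CoGrothendieck
open scoped CategoryTheory.Pseudofunctor.StrongTrans

namespace GrothLib.FibSite

variable {𝒮 : Type u} [SmallCategory 𝒮] {F G : Pseudofunctor (LocallyDiscrete 𝒮ᵒᵖ) Cat.{u, u}}
  (α : G ⟶ F) (S : 𝒮)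

lemma map_map_ι {V V' : G.obj ⟨op S⟩} (b : V ⟶ V') :
    (CoGrothendieck.map α).map ((ι G S).map b) = (ι F S).map ((α.app ⟨op S⟩).toFunctor.map b) := by
  refine Hom.ext _ _ rfl ?_
  dsimp [ι]
  simp [Pseudofunctor.StrongTrans.naturality_id_hom_app, ← Functor.map_comp, ← Cat.Hom₂.comp_app,
    Cat.Hom.comp_toFunctor, Cat.Hom.id_toFunctor]
  rw [← Functor.map_comp_assoc, Category.assoc, ← Cat.Hom₂.comp_app, Iso.inv_hom_id]
  simp

/-- The fibre square of a cartesian functor. -/
def ιMapIso : ι G S ⋙ CoGrothendieck.map α ≅ (α.app ⟨op S⟩).toFunctor ⋙ ι F S :=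
  NatIso.ofComponents (fun _ => Iso.refl _) (fun b => by
    exact (Category.comp_id _).trans ((map_map_ι α S b).trans (Category.id_comp _).symm))

lemma map_map_cart {T : 𝒮} (f : S ⟶ T) (W : G.obj ⟨op T⟩) :
    (CoGrothendieck.map α).map (cart f W) =
      (ι F S).map ((α.naturality f.op.toLoc).hom.toNatTrans.app W) ≫
        cart f ((α.app ⟨op T⟩).toFunctor.obj W) := by
  refine (eq_ι_map_comp_cart ((CoGrothendieck.map α).map (cart f W))).trans ?_
  refine congrArg (fun κ => (ι F S).map κ ≫ cart f ((α.app ⟨op T⟩).toFunctor.obj W)) ?_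
  exact (congrArg (· ≫ (α.naturality f.op.toLoc).hom.toNatTrans.app W)
    ((α.app ⟨op S⟩).toFunctor.map_id _)).trans (Category.id_comp _)

/-- The base change transformation of right Kan extensions, restricted to the fibre. -/
noncomputable def bcFiber (a : (F.obj ⟨op S⟩)ᵒᵖ ⥤ Type u) :
    (ι G S).op ⋙ (CoGrothendieck.map α).op ⋙ (ι F S).op.ran.obj a ⟶
      (α.app ⟨op S⟩).toFunctor.op ⋙ a :=
  (Functor.associator _ _ _).inv ≫
    Functor.whiskerRight (NatTrans.op (ιMapIso α S).inv) ((ι F S).op.ran.obj a) ≫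
      Functor.whiskerLeft (α.app ⟨op S⟩).toFunctor.op (((ι F S).op.ranAdjunction (Type u)).counit.app a)

/-- The base change transformation of right Kan extensions. -/
noncomputable def bc :
    (ι F S).op.ran (H := Type u) ⋙ (Functor.whiskeringLeft _ _ _).obj (CoGrothendieck.map α).op ⟶
      (Functor.whiskeringLeft _ _ _).obj (α.app ⟨op S⟩).toFunctor.op ⋙ (ι G S).op.ran where
  app a := ((ι G S).op.ranAdjunction (Type u)).homEquiv _ _ (bcFiber α S a)
  naturality a b r := by
    dsimp only [Functor.comp_map, Functor.comp_obj, Functor.whiskeringLeft_obj_obj, Functor.whiskeringLeft_obj_map]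
    refine (Adjunction.homEquiv_naturality_left _ _ _).symm.trans
      (Eq.trans (congrArg _ ?_) (Adjunction.homEquiv_naturality_right _ _ _))
    ext V x
    change (((ι F S).op.ranAdjunction (Type u)).counit.app b).app _ (((ι F S).op.ran.obj b).map
        ((ιMapIso α S).inv.app V.unop).op (((ι F S).op.ran.map r).app _ x)) =
      r.app _ ((((ι F S).op.ranAdjunction (Type u)).counit.app a).app _ (((ι F S).op.ran.obj a).map
        ((ιMapIso α S).inv.app V.unop).op x))
    rw [← NatTrans.naturality_apply ((ι F S).op.ran.map r)]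
    exact ConcreteCategory.congr_hom (NatTrans.congr_app
      (((ι F S).op.ranAdjunction (Type u)).counit.naturality r) ((α.app ⟨op S⟩).toFunctor.op.obj V)) _

lemma ranEval_bc {Z : ∫ᶜ G} (a : (F.obj ⟨op S⟩)ᵒᵖ ⥤ Type u)
    (x : ((ι F S).op.ran.obj a).obj (op ((CoGrothendieck.map α).obj Z))) {V : G.obj ⟨op S⟩}
    (g : (ι G S).obj V ⟶ Z) :
    ranEval S ((α.app ⟨op S⟩).toFunctor.op ⋙ a) (((bc α S).app a).app (op Z) x) g =
      ranEval S a x ((CoGrothendieck.map α).map g) := by
  have h := (((ι G S).op.ranAdjunction (Type u)).homEquiv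
    ((CoGrothendieck.map α).op ⋙ (ι F S).op.ran.obj a) ((α.app ⟨op S⟩).toFunctor.op ⋙ a)).symm_apply_apply
      (bcFiber α S a)
  rw [Adjunction.homEquiv_counit] at h
  have h1 := ConcreteCategory.congr_hom (NatTrans.congr_app h (op V))
    (((ι F S).op.ran.obj a).map ((CoGrothendieck.map α).map g).op x)
  change ((((ι G S).op.ranAdjunction (Type u)).counit.app _).app (op V))
    (((ι G S).op.ran.obj ((α.app ⟨op S⟩).toFunctor.op ⋙ a)).map g.op (((bc α S).app a).app (op Z) x)) = _
  refine Eq.trans ?_ (h1.trans ?_)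
  · exact congrArg _ (NatTrans.naturality_apply ((bc α S).app a) g.op x).symm
  · change ((((ι F S).op.ranAdjunction (Type u)).counit.app a).app _)
      (((ι F S).op.ran.obj a).map (𝟙 _) (((ι F S).op.ran.obj a).map ((CoGrothendieck.map α).map g).op x)) = _
    rw [CategoryTheory.Functor.map_id]
    rfl

theorem isIso_bc (a : (F.obj ⟨op S⟩)ᵒᵖ ⥤ Type u) : IsIso ((bc α S).app a) := by
  suffices ∀ X, IsIso (((bc α S).app a).app X) from NatIso.isIso_of_isIso_app _
  rintro ⟨⟨T, W⟩⟩
  rw [isIso_iff_bijective]
  have hκ : ∀ f : S ⟶ T, Function.Bijective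
      (a.map ((α.naturality f.op.toLoc).hom.toNatTrans.app W).op) := fun f => by
    haveI : IsIso ((α.naturality f.op.toLoc).hom.toNatTrans.app W) :=
      inferInstanceAs (IsIso ((Cat.Hom.toNatIso (α.naturality f.op.toLoc)).hom.app W))
    exact (isIso_iff_bijective _).1 inferInstance
  have hG := ranEval_cart_bijective S ((α.app ⟨op S⟩).toFunctor.op ⋙ a) T W
  have hF := ranEval_cart_bijective S a T ((α.app ⟨op T⟩).toFunctor.obj W)
  refine (Function.Bijective.of_comp_iff' hG _).1 ?_
  have e : (fun (y : ((ι G S).op.ran.obj ((α.app ⟨op S⟩).toFunctor.op ⋙ a)).obj (op ((ι G T).obj W)))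
        (f : S ⟶ T) => ranEval S ((α.app ⟨op S⟩).toFunctor.op ⋙ a) y (cart f W)) ∘
          ⇑(ConcreteCategory.hom (((bc α S).app a).app (op ((ι G T).obj W)))) =
      (Pi.map fun f => ⇑(ConcreteCategory.hom
          (a.map ((α.naturality f.op.toLoc).hom.toNatTrans.app W).op))) ∘
        fun (x : ((ι F S).op.ran.obj a).obj (op ((ι F T).obj ((α.app ⟨op T⟩).toFunctor.obj W)))) f =>
          ranEval S a x (cart f ((α.app ⟨op T⟩).toFunctor.obj W)) := funext fun x => funext fun f => by
    refine (ranEval_bc α S a x (cart f W)).trans ?_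
    rw [map_map_cart, ranEval_comp]
    rfl
  exact (Function.Bijective.piMap hκ).comp hF |> (e.symm ▸ ·)

variable {J : _root_.FibSite.Topologies F} {K : _root_.FibSite.Topologies G}

theorem isContinuous_map (hF : _root_.FibSite.IsPreFibSite F J) (hG : _root_.FibSite.IsPreFibSite G K)
    (hα : ∀ S : 𝒮, (α.app ⟨op S⟩).toFunctor.IsContinuous (K S) (J S)) :
    (CoGrothendieck.map α).IsContinuous (_root_.FibSite.totalTopology G K)
      (_root_.FibSite.totalTopology F J) :=
  (isContinuous_iff hG _ _).2 fun S => by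
    haveI := hα S
    haveI := isContinuous_ι hF S
    haveI := Functor.isContinuous_comp (α.app ⟨op S⟩).toFunctor (ι F S) (K S) (J S)
      (_root_.FibSite.totalTopology F J)
    exact Functor.isContinuous_of_iso (ιMapIso α S).symm (K S) _

variable [(α.app ⟨op S⟩).toFunctor.IsContinuous (K S) (J S)]
  [(CoGrothendieck.map α).IsContinuous (_root_.FibSite.totalTopology G K) (_root_.FibSite.totalTopology F J)]
  [(ι F S).IsCocontinuous (J S) (_root_.FibSite.totalTopology F J)]
  [(ι G S).IsCocontinuous (K S) (_root_.FibSite.totalTopology G K)]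

/-- Coextension commutes with direct image. -/
noncomputable def coextendMapIso :
    _root_.FibSite.coextend F J (Type u) S ⋙ (CoGrothendieck.map α).sheafPushforwardContinuous (Type u)
        (_root_.FibSite.totalTopology G K) (_root_.FibSite.totalTopology F J) ≅
      (α.app ⟨op S⟩).toFunctor.sheafPushforwardContinuous (Type u) (K S) (J S) ⋙
        _root_.FibSite.coextend G K (Type u) S :=
  NatIso.ofComponents
    (fun a => (fullyFaithfulSheafToPresheaf _ _).preimageIso
      (@asIso _ _ _ _ ((bc α S).app a.obj) (isIso_bc α S a.obj)))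
    (fun r => Sheaf.hom_ext ((bc α S).naturality r.hom))

variable [(ι F S).IsContinuous (J S) (_root_.FibSite.totalTopology F J)]
  [(ι G S).IsContinuous (K S) (_root_.FibSite.totalTopology G K)]
  [((α.app ⟨op S⟩).toFunctor.sheafPushforwardContinuous (Type u) (K S) (J S)).IsRightAdjoint]
  [((CoGrothendieck.map α).sheafPushforwardContinuous (Type u) (_root_.FibSite.totalTopology G K)
    (_root_.FibSite.totalTopology F J)).IsRightAdjoint]

/-- Inverse image commutes with restriction to a fibre. -/
noncomputable def pullbackRestrIso :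
    (CoGrothendieck.map α).sheafPullback (Type u) (_root_.FibSite.totalTopology G K)
        (_root_.FibSite.totalTopology F J) ⋙ _root_.FibSite.restr F J (Type u) S ≅
      _root_.FibSite.restr G K (Type u) S ⋙
        (α.app ⟨op S⟩).toFunctor.sheafPullback (Type u) (K S) (J S) :=
  ((((CoGrothendieck.map α).sheafAdjunctionContinuous (Type u) _ _).comp
      ((ι F S).sheafAdjunctionCocontinuous (Type u) (J S) _)).ofNatIsoRight (coextendMapIso α S)).leftAdjointUniq
    (((ι G S).sheafAdjunctionCocontinuous (Type u) (K S) _).comp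
      ((α.app ⟨op S⟩).toFunctor.sheafAdjunctionContinuous (Type u) _ _))

end GrothLib.FibSite
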