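import Groth.Agent.Lib.FibSite.Basic
import Mathlib.CategoryTheory.Sites.InducedTopology
import Mathlib.CategoryTheory.Sites.LeftExact
import Mathlib.CategoryTheory.Sites.LocallyInjective

/-!
# The covering sieves and sheaves of the total topology
-/

set_option backward.isDefEq.respectTransparency false
set_option backward.isDefEq.respectTransparency.types false

universe w v₃ u₃ v₂ u₂ v₁ u₁

open CategoryTheory CategoryTheory.Limits Opposite Pseudofunctor Pseudofunctor.CoGrothendieck

namespace GrothLib.FibSite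

section ClosedRel

variable {D : Type u₂} [Category.{v₂} D] (K : GrothendieckTopology D) (W : D)

/-- Closed subpresheaves of `h_Z × h_W`. -/
@[ext]
structure ClosedRel (Z : D) where
  rel : ∀ ⦃Z' : D⦄, (Z' ⟶ Z) → (Z' ⟶ W) → Prop
  down : ∀ ⦃Z' Z'' : D⦄ (m : Z'' ⟶ Z') (g : Z' ⟶ Z) (l : Z' ⟶ W), rel g l → rel (m ≫ g) (m ≫ l)
  closed : ∀ ⦃Z' : D⦄ (g : Z' ⟶ Z) (l : Z' ⟶ W) (E : Sieve Z'), E ∈ K Z' →
    (∀ ⦃Z'' : D⦄ (m : Z'' ⟶ Z'), E m → rel (m ≫ g) (m ≫ l)) → rel g l

/-- Closed subpresheaves of `h_Z × h_W`, as a presheaf in `Z`. -/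
def closedRel : Dᵒᵖ ⥤ Type (max u₂ v₂) where
  obj Z := ClosedRel K W Z.unop
  map {Z Z'} h := TypeCat.ofHom fun M =>
    { rel := fun Z'' g l => M.rel (g ≫ h.unop) l
      down := fun _ _ m g l hM => by rw [Category.assoc]; exact M.down m _ l hM
      closed := fun _ g l E hE hM => M.closed _ l E hE fun Z'' m hm => by
        rw [← Category.assoc]; exact hM m hm }
  map_id Z := by
    apply ConcreteCategory.hom_ext
    intro M
    apply ClosedRel.ext
    funext Z' g l
    exact congrArg (fun a => M.rel a l) (Category.comp_id g)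
  map_comp a b := by
    apply ConcreteCategory.hom_ext
    intro M
    apply ClosedRel.ext
    funext Z' g l
    exact congrArg (fun a => M.rel a l) (Category.assoc g _ _).symm

theorem closedRel_isSheaf : Presieve.IsSheaf K (closedRel K W) := by
  intro Z T hT c hc
  have hrel : ∀ ⦃Z₁ Z₂ : D⦄ (n : Z₂ ⟶ Z₁) (h : Z₁ ⟶ Z) (hh : T h) (g : Z₂ ⟶ Z₂) (l : Z₂ ⟶ W),
      (c (n ≫ h) (T.downward_closed hh n)).rel g l ↔ (c h hh).rel (g ≫ n) l := by
    intro Z₁ Z₂ n h hh g l
    have := hc n (𝟙 Z₂) hh (T.downward_closed hh n) (Category.id_comp _).symm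
    have := congrArg (fun M : ClosedRel K W Z₂ => M.rel g l) this
    change ((c h hh).rel (g ≫ n) l) = ((c (n ≫ h) _).rel (g ≫ 𝟙 Z₂) l) at this
    rw [this, Category.comp_id]
  have congr_c : ∀ ⦃Z' : D⦄ {a b : Z' ⟶ Z} (e : a = b) (ha : T a) (hb : T b) (g l),
      (c a ha).rel (Z' := Z') g l ↔ (c b hb).rel g l := by
    intro Z' a b e ha hb g l
    subst e
    exact Iff.rfl
  refine ⟨{ rel := fun Z' g l => ∀ ⦃Z'' : D⦄ (t : Z'' ⟶ Z') (ht : T (t ≫ g)),
              (c (t ≫ g) ht).rel (𝟙 _) (t ≫ l)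
            down := ?_
            closed := ?_ }, ?_, ?_⟩
  · intro Z' Z'' m g l hM Y t ht
    have := hM (t ≫ m) (by simpa using ht)
    rw [Category.assoc t m l] at this
    exact (congr_c (Category.assoc t m g) _ ht _ _).1 this
  · intro Z' g l E hE hM Y t ht
    refine (c (t ≫ g) ht).closed _ _ (E.pullback t) (K.pullback_stable t hE) fun Y' n hn => ?_
    have h1 := hM (n ≫ t) hn (𝟙 Y') (by rw [Category.id_comp, Category.assoc]; exact T.downward_closed ht n)
    have h2 := (congr_c (by rw [Category.id_comp, Category.assoc]) _ (T.downward_closed ht n) _ _).1 h1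
    have h3 := (hrel n (t ≫ g) ht (𝟙 Y') _).1 h2
    rw [Category.id_comp, Category.id_comp, Category.assoc] at h3
    rwa [Category.comp_id]
  · intro Z₁ h hh
    apply ClosedRel.ext
    funext Z' g l
    apply propext
    change (∀ ⦃Z'' : D⦄ (t : Z'' ⟶ Z') (ht : T (t ≫ g ≫ h)), _) ↔ _
    constructor
    · intro H
      have h1 := H (𝟙 Z') (by rw [Category.id_comp]; exact T.downward_closed hh g)
      have h2 := (congr_c (Category.id_comp _) _ (T.downward_closed hh g) _ _).1 h1
      have h3 := (hrel g h hh (𝟙 _) _).1 h2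
      rwa [Category.id_comp, Category.id_comp] at h3
    · intro H Y t ht
      refine (congr_c (Category.assoc t g h) (T.downward_closed hh _) ht _ _).1 ?_
      rw [hrel (t ≫ g) h hh (𝟙 Y) (t ≫ l), Category.id_comp]
      exact (c h hh).down t g l H
  · intro M hM
    apply ClosedRel.ext
    funext Z' g l
    apply propext
    constructor
    · intro H Y t ht
      have h1 := congrArg (fun N : ClosedRel K W Y => N.rel (𝟙 Y) (t ≫ l)) (hM (t ≫ g) ht)
      change M.rel (𝟙 Y ≫ t ≫ g) (t ≫ l) = (c (t ≫ g) ht).rel (𝟙 Y) (t ≫ l) at h1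
      rw [← h1, Category.id_comp]
      exact M.down t g l H
    · intro H
      refine M.closed g l (T.pullback g) (K.pullback_stable g hT) fun Y t ht => ?_
      have h1 := congrArg (fun N : ClosedRel K W Y => N.rel (𝟙 Y) (t ≫ l)) (hM (t ≫ g) ht)
      change M.rel (𝟙 Y ≫ t ≫ g) (t ≫ l) = (c (t ≫ g) ht).rel (𝟙 Y) (t ≫ l) at h1
      rw [Category.id_comp] at h1
      rw [h1]
      exact H t ht

end ClosedRel

/-- Families pushed along a continuous functor are compatible in a separated presheaf. -/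
theorem map_eq_of_isContinuous {C : Type u₁} [Category.{v₁} C] {D : Type u₂} [Category.{v₂} D]
    {J : GrothendieckTopology C} {K : GrothendieckTopology D} (u : C ⥤ D) [u.IsContinuous J K]
    (Q : Dᵒᵖ ⥤ Type w) (hQ : Presieve.IsSeparated K Q) {U : C} (R : Sieve U) (hR : R ∈ J U)
    (y : Presieve.FamilyOfElements (u.op ⋙ Q) R.arrows) (hy : y.Compatible)
    {V₁ V₂ : C} {r₁ : V₁ ⟶ U} {r₂ : V₂ ⟶ U} (h₁ : R r₁) (h₂ : R r₂)
    {W : D} (k₁ : W ⟶ u.obj V₁) (k₂ : W ⟶ u.obj V₂) (hk : k₁ ≫ u.map r₁ = k₂ ≫ u.map r₂) :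
    Q.map k₁.op (y r₁ h₁) = Q.map k₂.op (y r₂ h₂) := by
  let a := Q.map k₁.op (y r₁ h₁)
  let ψ : ∀ {Z : D}, Q.obj (op Z) → ClosedRel K W Z := fun {Z} c =>
    { rel := fun Z' g l => Q.map g.op c = Q.map l.op a
      down := fun _ _ m g l h => by
        rw [op_comp, op_comp, Functor.map_comp_apply, Functor.map_comp_apply, h]
      closed := fun Z' g l E hE h => (hQ E hE).ext fun Z'' m hm => by
        rw [← Functor.map_comp_apply, ← Functor.map_comp_apply, ← op_comp, ← op_comp]
        exact h m hm }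
  let y' : Presieve.FamilyOfElements (u.op ⋙ closedRel K W) R.arrows := fun V r hr => ψ (y r hr)
  have hy' : y'.Compatible := fun Y₁ Y₂ Z g₁ g₂ f₁ f₂ a₁ a₂ e => by
    have := hy g₁ g₂ a₁ a₂ e
    change Q.map (u.map g₁).op (y f₁ a₁) = Q.map (u.map g₂).op (y f₂ a₂) at this
    apply ClosedRel.ext
    funext Z' g l
    change (Q.map (g ≫ u.map g₁).op (y f₁ a₁) = _) = (Q.map (g ≫ u.map g₂).op (y f₂ a₂) = _)
    rw [op_comp, op_comp, Functor.map_comp_apply, Functor.map_comp_apply]
    exact congrArg (fun b => Q.map g.op b = _) this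
  have hsh : Presieve.IsSheaf J (u.op ⋙ closedRel K W) :=
    u.op_comp_isSheaf_of_types J K ⟨closedRel K W, (isSheaf_iff_isSheaf_of_type _ _).2 (closedRel_isSheaf K W)⟩
  let s : ClosedRel K W (u.obj U) := (hsh R hR).amalgamate y' hy'
  have hs : ∀ {V : C} (r : V ⟶ U) (hr : R r) (k : W ⟶ u.obj V),
      s.rel (k ≫ u.map r) (𝟙 W) = (Q.map k.op (y r hr) = Q.map (𝟙 W).op a) := fun r hr k =>
    congrArg (fun N : ClosedRel K W (u.obj _) => N.rel k (𝟙 W)) ((hsh R hR).valid_glue hy' r hr)
  have h := hs r₂ h₂ k₂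
  rw [← hk, hs r₁ h₁ k₁, op_id, CategoryTheory.Functor.map_id] at h
  exact (h.mp rfl).symm

variable {𝒮 : Type u₁} [Category.{v₁} 𝒮] {F : Pseudofunctor (LocallyDiscrete 𝒮ᵒᵖ) Cat.{v₂, u₂}}
  {J : _root_.FibSite.Topologies F} (hF : _root_.FibSite.IsPreFibSite F J)

include hF in
/-- Pullbacks of images of covers contain images of covers. -/
theorem exists_cover_le_pullback {X Y : ∫ᶜ F} (g : Y ⟶ X) (R : Sieve X.fiber) (hR : R ∈ J X.base X.fiber) :
    ∃ R' ∈ J Y.base Y.fiber, Sieve.functorPushforward (ι F Y.base) R' ≤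
      (Sieve.functorPushforward (ι F X.base) R).pullback g := by
  obtain ⟨S, U⟩ := X
  obtain ⟨R₀, V⟩ := Y
  let f : R₀ ⟶ S := g.base
  haveI := hF f
  have hT := (CoverPreserving.of_isContinuous (_root_.FibSite.invImage F f) (J S) (J R₀)).cover_preserve hR
  refine ⟨_, (J R₀).pullback_stable g.fiber hT, ?_⟩
  rw [Sieve.functor_galoisConnection]
  intro W h hh
  obtain ⟨V', r, k, hr, hk⟩ := hh
  refine ⟨V', r, (ι F R₀).map k ≫ cart f V', hr, ?_⟩
  have := congrArg (fun a => (ι F R₀).map a) hk
  simp only [Functor.map_comp] at this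
  rw [Category.assoc, ← cart_naturality, ← Category.assoc]
  refine Eq.trans ?_ (congrArg (· ≫ cart f U) this)
  refine Eq.trans ?_ (Category.assoc _ _ _).symm
  exact congrArg (((ι F R₀).map h) ≫ ·) (eq_ι_map_comp_cart (R := R₀) (S := S) (V := V) (U := U) g)

variable (J) in
/-- The topology of sieves containing images of covers. -/
def imageTopology : GrothendieckTopology (∫ᶜ F) where
  sieves X := {S | ∃ R ∈ J X.base X.fiber, Sieve.functorPushforward (ι F X.base) R ≤ S} ∪
    {S | ¬ _root_.FibSite.IsPreFibSite F J}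
  top_mem' X := Or.inl ⟨⊤, (J X.base).top_mem _, le_top⟩
  pullback_stable' X Y S g := by
    rintro (⟨R, hR, hS⟩ | h)
    · by_cases hF : _root_.FibSite.IsPreFibSite F J
      · obtain ⟨R', hR', h'⟩ := exists_cover_le_pullback hF g R hR
        exact Or.inl ⟨R', hR', h'.trans (Sieve.pullback_monotone g hS)⟩
      · exact Or.inr hF
    · exact Or.inr h
  transitive' X S hS S' hS' := by
    rcases hS with ⟨R, hR, hRS⟩ | h
    · by_cases hF : _root_.FibSite.IsPreFibSite F J
      · left
        obtain ⟨T, U⟩ := X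
        rw [Sieve.functor_galoisConnection] at hRS
        have : ∀ ⦃V : F.obj ⟨op T⟩⦄ (r : V ⟶ U), R r → ∃ R' ∈ J T V,
            Sieve.functorPushforward (ι F T) R' ≤ S'.pullback ((ι F T).map r) := fun V r hr =>
          (hS' (hRS _ hr)).resolve_right (fun h => h hF)
        choose R' hR' hle using this
        refine ⟨Sieve.bind R.arrows fun V r hr => R' r hr,
          (J T).bind_covering hR fun V r hr => hR' r hr, ?_⟩
        rw [Sieve.functor_galoisConnection]
        rintro W _ ⟨V, k, r, hr, hk, rfl⟩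
        change S'.arrows ((ι F T).map (k ≫ r))
        rw [Functor.map_comp]
        exact hle r hr _ (Sieve.image_mem_functorPushforward (ι F T) _ hk)
      · exact Or.inr hF
    · exact Or.inr h

include hF in
theorem mem_totalTopology_iff (X : ∫ᶜ F) (S : Sieve X) :
    S ∈ _root_.FibSite.totalTopology F J X ↔
      ∃ R ∈ J X.base X.fiber, Sieve.functorPushforward (ι F X.base) R ≤ S := by
  constructor
  · intro hS
    have h := _root_.FibSite.totalTopology_le (F := F) (J := J) (K := imageTopology J)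
      (fun T U R hR => Or.inl ⟨R, hR, le_rfl⟩) _ hS
    exact h.resolve_right (fun h => h hF)
  · rintro ⟨R, hR, hS⟩
    obtain ⟨T, U⟩ := X
    exact (_root_.FibSite.totalTopology F J).superset_covering hS
      (_root_.FibSite.functorPushforward_mem_totalTopology hR)

include hF in
theorem isCocontinuous_ι (S : 𝒮) :
    (ι F S).IsCocontinuous (J S) (_root_.FibSite.totalTopology F J) where
  cover_lift {U T} hT := by
    obtain ⟨R, hR, hle⟩ := (mem_totalTopology_iff hF _ T).1 hT
    rw [Sieve.functor_galoisConnection] at hle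
    exact (J S).superset_covering hle hR

include hF in
theorem isSheaf_iff_types (P : (∫ᶜ F)ᵒᵖ ⥤ Type w) :
    Presieve.IsSheaf (_root_.FibSite.totalTopology F J) P ↔
      ∀ S : 𝒮, Presieve.IsSheaf (J S) ((ι F S).op ⋙ P) := by
  constructor
  · intro hP S
    have hsep : ∀ R : 𝒮, Presieve.IsSeparated (J R) ((ι F R).op ⋙ P) := by
      intro R U T hT x a b ha hb
      refine (hP _ (_root_.FibSite.functorPushforward_mem_totalTopology hT)).isSeparatedFor.ext ?_
      rintro Z _ ⟨V, r, k, hr, rfl⟩
      rw [op_comp, Functor.map_comp_apply, Functor.map_comp_apply]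
      exact congrArg (P.map k.op) ((ha r hr).trans (hb r hr).symm)
    intro U R hR x hx
    have hcp : (x.functorPushforward (ι F S)).Compatible := by
      intro Z₁ Z₂ W q₁ q₂ g₁ g₂ m₁ m₂ e
      unfold Presieve.FamilyOfElements.functorPushforward
      rcases Presieve.getFunctorPushforwardStructure m₁ with ⟨V₁, r₁, p₁, h₁, e₁⟩
      rcases Presieve.getFunctorPushforwardStructure m₂ with ⟨V₂, r₂, p₂, h₂, e₂⟩
      subst e₁ e₂
      rw [← Functor.map_comp_apply, ← Functor.map_comp_apply, ← op_comp, ← op_comp]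
      have e' : (q₁ ≫ p₁) ≫ (ι F S).map r₁ = (q₂ ≫ p₂) ≫ (ι F S).map r₂ := by
        simpa only [Category.assoc] using e
      revert e'
      generalize q₁ ≫ p₁ = k₁
      generalize q₂ ≫ p₂ = k₂
      intro e'
      obtain ⟨R₀, V₀⟩ := W
      have hb : k₁.base = k₂.base := by
        have := congrArg (fun a => a.base) e'
        exact ((Category.comp_id _).symm.trans this).trans (Category.comp_id _)
      obtain ⟨f, φ₁⟩ := k₁
      obtain ⟨f', φ₂⟩ := k₂
      change f = f' at hb
      subst hb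
      change R₀ ⟶ S at f
      rw [eq_ι_map_comp_cart (F := F) (R := R₀) (S := S) (V := V₀) ⟨f, φ₁⟩,
        eq_ι_map_comp_cart (F := F) (R := R₀) (S := S) (V := V₀) ⟨f, φ₂⟩] at e' ⊢
      rw [op_comp, op_comp, Functor.map_comp_apply, Functor.map_comp_apply]
      haveI := hF f
      let y : Presieve.FamilyOfElements ((_root_.FibSite.invImage F f).op ⋙ (ι F R₀).op ⋙ P) R.arrows :=
        fun V r hr => P.map (cart f V).op (x r hr)
      have hy : y.Compatible := fun Y₁ Y₂ Z a₁ a₂ f₁ f₂ b₁ b₂ ee => by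
        change P.map _ (P.map _ (x f₁ b₁)) = P.map _ (P.map _ (x f₂ b₂))
        rw [← Functor.map_comp_apply, ← Functor.map_comp_apply]
        simp only [Functor.op_map, Quiver.Hom.unop_op, ← op_comp, cart_naturality]
        simp only [op_comp, Functor.map_comp_apply]
        exact congrArg (P.map (cart f Z).op) (hx a₁ a₂ b₁ b₂ ee)
      refine map_eq_of_isContinuous (_root_.FibSite.invImage F f) ((ι F R₀).op ⋙ P) (hsep R₀) R hR y hy
        h₁ h₂ φ₁ φ₂ ?_
      refine cart_left_cancel (f := f) ?_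
      simp only [Functor.map_comp, Category.assoc, cart_naturality] at e' ⊢
      exact e'
    have hS := hP _ (_root_.FibSite.functorPushforward_mem_totalTopology hR)
    refine ⟨hS.amalgamate _ hcp, fun V r hr => ?_, fun a ha => ?_⟩
    · change P.map ((ι F S).map r).op _ = _
      rw [hS.valid_glue hcp _ (Sieve.image_mem_functorPushforward (ι F S) R hr)]
      unfold Presieve.FamilyOfElements.functorPushforward
      rcases Presieve.getFunctorPushforwardStructure (Sieve.image_mem_functorPushforward (ι F S) R hr)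
        with ⟨V₁, r₁, p₁, h₁, e₁⟩
      obtain ⟨p, rfl⟩ := exists_eq_ι_map p₁ (by
        have := congrArg (fun a => a.base) e₁
        exact (Category.comp_id _).symm.trans this.symm)
      have : p ≫ r₁ = r := ι_map_injective (by rw [Functor.map_comp]; exact e₁.symm)
      subst this
      exact (hx p (𝟙 _) h₁ hr (by simp)).trans (by simp)
    · refine hS.isSeparatedFor.ext ?_
      rintro Z _ ⟨V, r, k, hr, rfl⟩
      rw [op_comp, Functor.map_comp_apply, Functor.map_comp_apply]
      refine congrArg (P.map k.op) ((ha r hr).trans ?_)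
      rw [hS.valid_glue hcp _ (Sieve.image_mem_functorPushforward (ι F S) R hr)]
      unfold Presieve.FamilyOfElements.functorPushforward
      rcases Presieve.getFunctorPushforwardStructure (Sieve.image_mem_functorPushforward (ι F S) R hr)
        with ⟨V₁, r₁, p₁, h₁, e₁⟩
      obtain ⟨p, rfl⟩ := exists_eq_ι_map p₁ (by
        have := congrArg (fun a => a.base) e₁
        exact (Category.comp_id _).symm.trans this.symm)
      have : p ≫ r₁ = r := ι_map_injective (by rw [Functor.map_comp]; exact e₁.symm)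
      subst this
      exact ((hx p (𝟙 _) h₁ hr (by simp)).trans (by simp)).symm
  · intro hP ⟨T, U⟩ S hS x hx
    obtain ⟨R, hR, hle⟩ := (mem_totalTopology_iff hF _ S).1 hS
    rw [Sieve.functor_galoisConnection] at hle
    let xR : Presieve.FamilyOfElements ((ι F T).op ⋙ P) R.arrows := fun V r hr =>
      x ((ι F T).map r) (hle _ hr)
    have hxR : xR.Compatible := fun Y₁ Y₂ Z a₁ a₂ f₁ f₂ b₁ b₂ ee =>
      hx ((ι F T).map a₁) ((ι F T).map a₂) (hle _ b₁) (hle _ b₂)
        (by rw [← Functor.map_comp, ← Functor.map_comp, ee])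
    refine ⟨(hP T R hR).amalgamate xR hxR, fun Z g hg => ?_, fun a ha => ?_⟩
    · obtain ⟨R₀, V⟩ := Z
      obtain ⟨R', hR', hle'⟩ := exists_cover_le_pullback hF g R hR
      rw [Sieve.functor_galoisConnection] at hle'
      refine (hP R₀ R' hR').isSeparatedFor.ext fun W h hh => ?_
      obtain ⟨V', r, k, hr, hk⟩ := hle' _ hh
      change P.map ((ι F R₀).map h).op (P.map g.op _) = P.map ((ι F R₀).map h).op (x g hg)
      refine (Functor.map_comp_apply P g.op ((ι F R₀).map h).op _).symm.trans ?_
      rw [← op_comp, hk, op_comp, Functor.map_comp_apply]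
      refine (congrArg (P.map k.op) ((hP T R hR).valid_glue hxR r hr)).trans ?_
      exact (hx ((ι F R₀).map h) k hg (hle _ hr) hk).symm
    · exact (hP T R hR).isSeparatedFor.ext fun V r hr =>
        (ha _ (hle _ hr)).trans ((hP T R hR).valid_glue hxR r hr).symm

include hF in
theorem isSheaf_iff {A : Type u₃} [Category.{v₃} A] (P : (∫ᶜ F)ᵒᵖ ⥤ A) :
    Presheaf.IsSheaf (_root_.FibSite.totalTopology F J) P ↔
      ∀ S : 𝒮, Presheaf.IsSheaf (J S) ((ι F S).op ⋙ P) :=
  ⟨fun h S E => (isSheaf_iff_types hF (P ⋙ coyoneda.obj (op E))).1 (h E) S,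
    fun h E => (isSheaf_iff_types hF (P ⋙ coyoneda.obj (op E))).2 fun S => h S E⟩

include hF in
theorem isContinuous_ι (S : 𝒮) :
    (ι F S).IsContinuous (J S) (_root_.FibSite.totalTopology F J) where
  op_comp_isSheaf_of_types G :=
    (isSheaf_iff_types hF G.obj).1 ((isSheaf_iff_isSheaf_of_type _ _).1 G.property) S

include hF in
theorem isContinuous_iff {D : Type u₃} [Category.{v₃} D] (K : GrothendieckTopology D) (m : ∫ᶜ F ⥤ D) :
    m.IsContinuous (_root_.FibSite.totalTopology F J) K ↔
      ∀ S : 𝒮, (ι F S ⋙ m).IsContinuous (J S) K := by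
  constructor
  · intro hm S
    haveI := isContinuous_ι hF S
    exact Functor.isContinuous_comp (ι F S) m (J S) (_root_.FibSite.totalTopology F J) K
  · intro hm
    refine ⟨fun G => (isSheaf_iff_types hF _).2 fun S => ?_⟩
    haveI := hm S
    exact (ι F S ⋙ m).op_comp_isSheaf_of_types (J S) K G

include hF in
theorem inducedTopology_ι (S : 𝒮) :
    (ι F S).inducedTopology (_root_.FibSite.totalTopology F J) = J S := by
  refine le_antisymm (fun U T hT => ?_) (Functor.le_inducedTopology_iff.2 (isContinuous_ι hF S))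
  have h := (CoverPreserving.of_isContinuous (ι F S) _ (_root_.FibSite.totalTopology F J)).cover_preserve hT
  obtain ⟨R, hR, hle⟩ := (mem_totalTopology_iff hF _ _).1 h
  rw [Sieve.functor_galoisConnection] at hle
  refine (J S).superset_covering (fun V r hr => ?_) hR
  obtain ⟨V', t, k, ht, hk⟩ := hle _ hr
  obtain ⟨p, rfl⟩ := exists_eq_ι_map k (by
    have := congrArg (fun a => a.base) hk
    exact (Category.comp_id _).symm.trans this.symm)
  have hk' : (ι F S).map r = (ι F S).map (p ≫ t) := hk.trans ((ι F S).map_comp p t).symm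
  rw [ι_map_injective hk']
  exact T.downward_closed ht p

end GrothLib.FibSite
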